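import Cfsg.Agent.H86.TI.Count
import Cfsg.Agent.H35.TI.McLCentX
import Cfsg.Agent.H699.TI.McLTwo
import Cfsg.Agent.H212.TI.McLSeven
import Cfsg.Agent.H729.TI.McLRel
import Cfsg.Agent.H921.TI.McLThree

/-!
# The count for `3.McL` (helper86, task 5085): 19 characters over a faithful linear character of the centre are not of
5-defect zero
-/

set_option autoImplicit false
set_option linter.unusedSectionVars false

open Subgroup Cfsg
open scoped ComplexConjugate commutatorElement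

namespace Cfsg.Agent.H86.TI

open Cfsg.Agent.H407.TI Cfsg.Agent.Characters.Core
open Cfsg.Agent.H681.TI (DZ)

universe u v

section model

open Cfsg.Agent.McLType.X275 Cfsg.Agent.McLType.Gens Cfsg.Agent.McLType.Model Cfsg.Agent.H58.McLOdd
open Cfsg.Agent.H686.Odd.McL Cfsg.Agent.H729.TI

theorem exists_loc : Nonempty (Loc G1) := by
  have iso : Spor.IsoMcL G1 := isoMcL_G1
  have hs6 : s ^ 6 = 1 := s_pow
  have ot : orderOf (s ^ 3) = 2 := by rw [orderOf_pow, order_s]; norm_num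
  have ox : orderOf (s ^ 4) = 3 := by rw [orderOf_pow, order_s]; norm_num
  have cs : Commute s c := sc
  have htx : s ^ 3 * s ^ 4 = s ^ 4 * s ^ 3 := by rw [← pow_add, ← pow_add]
  have htz : s ^ 3 * c = c * s ^ 3 := (cs.pow_left 3).eq
  have hxz : s ^ 4 * c = c * s ^ 4 := (cs.pow_left 4).eq
  obtain ⟨-, -, -, ⟨L⟩⟩ := Cfsg.Agent.TypeM.FactsMcL.facts iso
  obtain ⟨y, m, oy, ty, my, mt, cy, cty, ny, nty⟩ := Cfsg.Agent.H212.TI.seven_data iso ot
  obtain ⟨v, ov, vv, cv, nv⟩ := Cfsg.Agent.H212.TI.eleven_data iso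
  obtain ⟨V, hV, hV2⟩ := Cfsg.Agent.H212.TI.exists_V iso
  obtain ⟨S, hS, -, hgen⟩ := Cfsg.Agent.H921.TI.exists_S
  refine ⟨{ t := s ^ 3, x := s ^ 4, z := c, u := a, h := wd h14, q := wd q13, r := wd r12, y := y, m := m, v := v,
            V := V, P := closure {a, b}, S := S, cardG := card_G1, ot := ot, ox := ox, oz := order_c,
            ou := Cfsg.Agent.H35.TI.order_a, oy := oy, ov := ov, tx := htx, tz := htz, xz := hxz, ty := ty, ht := ?_,
            hx := ?_, hz := Cfsg.Agent.H729.TI.hc, qq := Cfsg.Agent.H729.TI.qq, qx := ?_, rx := ?_,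
            rq := Cfsg.Agent.H729.TI.rq, uu := ?_, my := my, mt := mt, vv := vv, cardV := hV, tV := ?_,
            cardP := card_ab, zP := ?_, uP := fun g h1 h2 => Cfsg.Agent.H729.TI.conj_a h1 h2, cardS := hS,
            genS := hgen, ct := Cfsg.Agent.H699.TI.card_cent_two iso ot, cx := Cfsg.Agent.H35.TI.card_x,
            cz := Cfsg.Agent.H35.TI.card_c, cu := Cfsg.Agent.H35.TI.card_a,
            ctx := Cfsg.Agent.H699.TI.card_cent_six iso ot ox order_c htx htz hxz,
            ctz := Cfsg.Agent.H699.TI.card_cent_ten iso ot order_c htz, cxz := Cfsg.Agent.H35.TI.card_xc,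
            cy := cy, cty := cty, cv := cv, nxz := Cfsg.Agent.H35.TI.nconj, ny := ny, nty := nty, nv := nv }⟩
  · have h1 : wd h14 * s ^ 3 * (wd h14)⁻¹ = s ^ 3 := by
      rw [← conj_pow, Cfsg.Agent.H729.TI.hs, inv_pow]
      exact inv_eq_of_mul_eq_one_left (by rw [← pow_add]; exact hs6)
    exact mul_inv_eq_iff_eq_mul.1 h1
  · rw [← conj_pow, Cfsg.Agent.H729.TI.hs, inv_pow]
  · exact (Commute.pow_right (show Commute (wd q13) s from Cfsg.Agent.H729.TI.qs) 4).eq
  · exact (Commute.pow_right (show Commute (wd r12) s from Cfsg.Agent.H729.TI.rs) 4).eq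
  · have h1 := Cfsg.Agent.H729.TI.conj_ab (i := 2) (j := 0) (by norm_num) (by norm_num) (by norm_num)
    simpa using h1
  · intro g hg hg1
    obtain ⟨h1, h2⟩ := Cfsg.Agent.TypeM.Two.MT.sq_of_orderOf ot
    obtain ⟨h3, h4⟩ := Cfsg.Agent.TypeM.Two.MT.sq_of_orderOf (hV2 g hg hg1)
    obtain ⟨w, hw⟩ := L.conj_of_involutions h1 h2 h3 h4
    exact isConj_iff.2 ⟨w, hw⟩
  · have ha : a ∈ closure ({a, b} : Set G1) := subset_closure (by simp)
    have hb : b ∈ closure ({a, b} : Set G1) := subset_closure (by simp)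
    show ⁅a, b⁆ ∈ closure ({a, b} : Set G1)
    rw [commutatorElement_def]
    exact mul_mem (mul_mem (mul_mem ha hb) (inv_mem ha)) (inv_mem hb)

theorem exists_ext {E : Type u} [Group E] (Z : Subgroup E) [Z.Normal] (hZ : Z ≤ center E) (hc : Nat.card Z = 3)
    (h : Spor.IsoMcL (E ⧸ Z)) : ∃ π : E →* G1, Ext Z π := by
  obtain ⟨e⟩ := h
  obtain ⟨f⟩ := isoMcL_G1
  let g : E ⧸ Z ≃* G1 := e.trans f.symm
  refine ⟨g.toMonoidHom.comp (QuotientGroup.mk' Z), ⟨g.surjective.comp (QuotientGroup.mk'_surjective Z), ?_, hZ, hc⟩⟩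
  ext z
  rw [MonoidHom.mem_ker]
  show g (QuotientGroup.mk' Z z) = 1 ↔ _
  rw [map_eq_one_iff _ g.injective]
  exact QuotientGroup.eq_one_iff z

end model

/-- **`3.McL`**: 19 characters over a faithful character of the centre are not of 5-defect zero. -/
theorem card_three_mcl {E : Type u} [Group E] [Finite E] (hperf : commutator E = ⊤) (Z : Subgroup E) [Z.Normal]
    (hZ : Z ≤ Subgroup.center E) (hc : Nat.card Z = 3) (h : Spor.IsoMcL (E ⧸ Z)) (l : Z →* ℂˣ) (hl : l ≠ 1) :
    Nat.card {η : IrrCharacter E // (∀ z : Z, (η : E → ℂ) z = (l z : ℂ) * (η : E → ℂ) 1) ∧ ¬ DZ 5 (η : E → ℂ)} = 19 := by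
  obtain ⟨π, hπ⟩ := exists_ext Z hZ hc h
  obtain ⟨L⟩ := exists_loc
  rw [← card_over hπ L hperf hl]
  refine Nat.card_congr (Equiv.subtypeEquivRight fun η => ?_)
  have hE : Nat.card E = 2694384000 := by rw [hπ.card_E, L.cardG]
  have h5 : Nat.Prime 5 := by norm_num
  have hf : (Nat.card E).factorization 5 = 3 := by
    rw [hE]
    apply le_antisymm
    · by_contra hlt
      push Not at hlt
      have h1 := (h5.pow_dvd_iff_le_factorization (n := 2694384000) (k := 4) (by norm_num)).2 hlt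
      exact absurd h1 (by norm_num)
    · exact (h5.pow_dvd_iff_le_factorization (n := 2694384000) (k := 3) (by norm_num)).1 (by norm_num)
  have hd0 := (H669.Basic.charDegree_pos η.2).ne'
  have := Fact.mk h5
  have hle := Cfsg.Agent.H681.TI.factorization_le (p := 5) η.2
  have hdz : ¬ DZ 5 (η : E → ℂ) ↔ ¬ 125 ∣ charDegree (η : E → ℂ) := by
    rw [not_iff_not]
    unfold DZ
    rw [hf] at hle ⊢
    rw [show (125 : ℕ) = 5 ^ 3 by norm_num, h5.pow_dvd_iff_le_factorization hd0]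
    omega
  rw [hdz]
  constructor
  · rintro ⟨h1, h2⟩
    refine ⟨fun z g => ?_, h2⟩
    rw [central_mul η.2 (fun g => (mem_center_iff.1 (hZ z.2) g).symm) g, h1 z]
    have h3 : (η : E → ℂ) 1 ≠ 0 := isIrr_apply_one_ne_zero η.2
    field_simp
  · rintro ⟨h1, h2⟩
    refine ⟨fun z => ?_, h2⟩
    have := h1 z 1
    rwa [mul_one] at this

end Cfsg.Agent.H86.TI
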