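import Mathlib

/-!
# The count for `3.McL` (helper86, task 5085): Bessel's inequality for orthogonal columns
-/

set_option autoImplicit false

namespace Cfsg.Agent.H86.TI

open scoped ComplexConjugate

theorem bessel {ι : Type*} {n : ℕ} (X : Finset ι) (c : Fin n → ι → ℂ) (N : Fin n → ℕ) (hN : ∀ i, N i ≠ 0)
    (ho : ∀ i j, ∑ x ∈ X, c i x * conj (c j x) = if i = j then (N i : ℂ) else 0) {ψ : ι} (hψ : ψ ∈ X) :
    ∑ i, Complex.normSq (c i ψ) / N i ≤ 1 := by
  classical
  set S : ℝ := ∑ i, Complex.normSq (c i ψ) / N i with hS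
  have hSc : (S : ℂ) = ∑ i, conj (c i ψ) * c i ψ / N i := by
    rw [hS, Complex.ofReal_sum]
    refine Finset.sum_congr rfl fun i _ => ?_
    rw [Complex.ofReal_div, Complex.ofReal_natCast, Complex.normSq_eq_conj_mul_self]
  let A : ι → ℂ := fun x => ∑ i, conj (c i ψ) / N i * c i x
  have hA : A ψ = S := by
    rw [hSc]
    exact Finset.sum_congr rfl fun i _ => by ring
  have hAA : ∑ x ∈ X, A x * conj (A x) = S := by
    have h1 : ∀ x ∈ X, A x * conj (A x) =
        ∑ i, ∑ j, (conj (c i ψ) / N i) * (c j ψ / N j) * (c i x * conj (c j x)) := by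
      intro x _
      have h2 : conj (A x) = ∑ j, c j ψ / N j * conj (c j x) := by
        show conj (∑ i, conj (c i ψ) / N i * c i x) = _
        rw [map_sum]
        refine Finset.sum_congr rfl fun i _ => ?_
        rw [map_mul, map_div₀, Complex.conj_conj, Complex.conj_natCast]
      rw [h2, Finset.sum_mul_sum]
      exact Finset.sum_congr rfl fun i _ => Finset.sum_congr rfl fun j _ => by ring
    rw [Finset.sum_congr rfl h1, Finset.sum_comm]
    rw [hSc]
    refine Finset.sum_congr rfl fun i _ => ?_
    rw [Finset.sum_comm]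
    rw [Finset.sum_congr rfl fun j _ => by rw [← Finset.mul_sum, ho i j]]
    rw [Finset.sum_eq_single i]
    · rw [if_pos rfl]
      have := hN i
      have h3 : (N i : ℂ) ≠ 0 := by exact_mod_cast this
      field_simp
    · intro j _ hj
      rw [if_neg (Ne.symm hj), mul_zero]
    · intro h; exact absurd (Finset.mem_univ _) h
  let δ : ι → ℂ := fun x => if x = ψ then 1 else 0
  have h1 : ∑ x ∈ X, (δ x - A x) * conj (δ x - A x) = 1 - S := by
    have h2 : ∀ x ∈ X, (δ x - A x) * conj (δ x - A x) =
        (if x = ψ then (1 - A ψ - conj (A ψ)) else 0) + A x * conj (A x) := by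
      intro x _
      by_cases hx : x = ψ
      · subst hx
        simp only [δ, if_true, map_sub, map_one]
        ring
      · simp only [δ, if_neg hx, map_sub, map_zero]
        ring
    rw [Finset.sum_congr rfl h2, Finset.sum_add_distrib, hAA, Finset.sum_ite_eq' X ψ, if_pos hψ, hA,
      Complex.conj_ofReal]
    ring
  have h3 : (0 : ℝ) ≤ 1 - S := by
    have h4 : ((∑ x ∈ X, Complex.normSq (δ x - A x) : ℝ) : ℂ) = ((1 - S : ℝ) : ℂ) := by
      rw [Complex.ofReal_sum, Complex.ofReal_sub, Complex.ofReal_one, ← h1]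
      refine Finset.sum_congr rfl fun x _ => ?_
      rw [Complex.mul_conj]
    rw [← Complex.ofReal_inj.1 h4]
    exact Finset.sum_nonneg fun x _ => Complex.normSq_nonneg _
  linarith

end Cfsg.Agent.H86.TI
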