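import Cfsg.Agent.H86.TI.RowOf
import Cfsg.Agent.H681.TI.Blk

/-!
# The count for `3.McL` (helper86, task 5085): the Gram matrix and the count, given the local facts
-/

set_option autoImplicit false
set_option linter.unusedSectionVars false

open Subgroup Cfsg
open scoped ComplexConjugate

namespace Cfsg.Agent.H86.TI

open Cfsg.Agent.H407.TI Cfsg.Agent.Characters.Core

universe u v

variable {E : Type u} [Group E] {Z : Subgroup E} {G : Type v} [Group G] {π : E →* G} {L : Loc G}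

/-- the embedding of the indices -/
def c7 (i : Fin 7) : Fin 17 := Fin.castLE (by norm_num) i

theorem c7_inj {i j : Fin 7} : c7 i = c7 j ↔ i = j := by
  unfold c7
  exact (Fin.castLE_injective (by norm_num)).eq_iff

theorem nrm_c7 : ∀ i, (nrm (c7 i) : ℤ) = Num.co i := by decide

namespace LocE

variable (e : LocE π L)

theorem fam_c7 (i : Fin 7) : e.fam (c7 i) = e.fam7 i := by
  fin_cases i <;> rfl

variable [Finite E] [Fintype (IrrCharacter E)] (h : Ext Z π) (lam : Z →* ℂˣ)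
  [DecidablePred fun χ : IrrCharacter E => Over Z lam (χ : E → ℂ)]
include h

theorem gram (u : Fin 7 → IrrCharacter E → ℤ) (w : Fin 4 → IrrCharacter E → ℤ)
    (hu : ∀ χ : IrrCharacter E, Over Z lam (χ : E → ℂ) → ∀ i, (χ : E → ℂ) (e.fam7 i) = u i χ)
    (h1 : ∀ χ : IrrCharacter E, Over Z lam (χ : E → ℂ) → (χ : E → ℂ) (e.X * e.W) = w 0 χ + w 1 χ * eta)
    (h2 : ∀ χ : IrrCharacter E, Over Z lam (χ : E → ℂ) → (χ : E → ℂ) (e.T * (e.X * e.W)) = w 2 χ + w 3 χ * eta) :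
    Num.Gram (Finset.univ.filter fun χ : IrrCharacter E => Over Z lam (χ : E → ℂ)) u w := by
  set X := Finset.univ.filter fun χ : IrrCharacter E => Over Z lam (χ : E → ℂ) with hX
  have mem : ∀ χ, χ ∈ X → Over Z lam (χ : E → ℂ) := fun χ hχ => (Finset.mem_filter.1 hχ).2
  have e1 : ∀ χ ∈ X, (χ : E → ℂ) (e.fam 7) = w 0 χ + w 1 χ * eta := fun χ hχ => h1 χ (mem χ hχ)
  have e2 : ∀ χ ∈ X, (χ : E → ℂ) (e.fam 8) = w 2 χ + w 3 χ * eta := fun χ hχ => h2 χ (mem χ hχ)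
  have e3 : ∀ χ ∈ X, conj ((χ : E → ℂ) (e.fam 9)) = w 0 χ + w 1 χ * eta := by
    intro χ hχ
    rw [← h1 χ (mem χ hχ)]
    change conj ((χ : E → ℂ) (e.X * e.W)⁻¹) = _
    rw [isCharacter_apply_inv (isIrr_isCharacter χ.2), Complex.conj_conj]
  have e4 : ∀ χ ∈ X, conj ((χ : E → ℂ) (e.fam 10)) = w 2 χ + w 3 χ * eta := by
    intro χ hχ
    rw [← h2 χ (mem χ hχ)]
    change conj ((χ : E → ℂ) (e.T * (e.X * e.W))⁻¹) = _
    rw [isCharacter_apply_inv (isIrr_isCharacter χ.2), Complex.conj_conj]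
  have e5 : ∀ χ ∈ X, ∀ i, (χ : E → ℂ) (e.fam (c7 i)) = u i χ := fun χ hχ i => by
    rw [e.fam_c7]; exact hu χ (mem χ hχ) i
  have uw : ∀ (i : Fin 7) (a b : IrrCharacter E → ℤ) (k : Fin 17), c7 i ≠ k →
      (∀ χ ∈ X, conj ((χ : E → ℂ) (e.fam k)) = a χ + b χ * eta) →
      ∑ χ ∈ X, u i χ * a χ = 0 ∧ ∑ χ ∈ X, u i χ * b χ = 0 := by
    intro i a b k hk hab
    have h3 := e.col h lam (c7 i) k
    rw [if_neg hk] at h3
    apply sep_eta
    rw [← h3]
    push_cast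
    rw [Finset.sum_mul, ← Finset.sum_add_distrib]
    refine Finset.sum_congr rfl fun χ hχ => ?_
    rw [e5 χ hχ, hab χ hχ]
    ring
  have hne : ∀ i : Fin 7, c7 i ≠ 9 ∧ c7 i ≠ 10 := by decide
  have ww : ∑ χ ∈ X, w 0 χ * w 2 χ = 0 ∧ ∑ χ ∈ X, w 0 χ * w 3 χ = 0 ∧ ∑ χ ∈ X, w 1 χ * w 2 χ = 0 ∧
      ∑ χ ∈ X, w 1 χ * w 3 χ = 0 := by
    have h3 := e.col h lam 7 10
    rw [if_neg (by decide)] at h3
    have h4 := e.col h lam 7 8
    rw [if_neg (by decide)] at h4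
    have h3' : ∑ χ ∈ X, ((w 0 χ : ℂ) + w 1 χ * eta) * (w 2 χ + w 3 χ * eta) = 0 := by
      rw [← h3]
      exact Finset.sum_congr rfl fun χ hχ => by rw [e1 χ hχ, e4 χ hχ]
    have h4' : ∑ χ ∈ X, ((w 0 χ : ℂ) + w 1 χ * eta) * (w 2 χ + w 3 χ * (1 - eta)) = 0 := by
      rw [← h4]
      exact Finset.sum_congr rfl fun χ hχ => by
        rw [e1 χ hχ, e2 χ hχ, map_add, map_mul, conj_eta, map_intCast, map_intCast]
    have h5 := sep_eta (A := ∑ χ ∈ X, (w 0 χ * w 2 χ - 4 * (w 1 χ * w 3 χ)))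
      (B := ∑ χ ∈ X, (w 0 χ * w 3 χ + w 1 χ * w 2 χ + w 1 χ * w 3 χ)) (by
        rw [← h3']
        push_cast
        rw [Finset.sum_mul, ← Finset.sum_add_distrib]
        refine Finset.sum_congr rfl fun χ _ => ?_
        linear_combination (-(w 1 χ : ℂ) * w 3 χ) * eta_sq)
    have h6 := sep_eta (A := ∑ χ ∈ X, (w 0 χ * w 2 χ + w 0 χ * w 3 χ + 4 * (w 1 χ * w 3 χ)))
      (B := ∑ χ ∈ X, (w 1 χ * w 2 χ - w 0 χ * w 3 χ)) (by
        rw [← h4']
        push_cast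
        rw [Finset.sum_mul, ← Finset.sum_add_distrib]
        refine Finset.sum_congr rfl fun χ _ => ?_
        linear_combination ((w 1 χ : ℂ) * w 3 χ) * eta_sq)
    simp only [Finset.sum_add_distrib, Finset.sum_sub_distrib, ← Finset.mul_sum] at h5 h6
    obtain ⟨h7, h8⟩ := h5
    obtain ⟨h9, h10⟩ := h6
    refine ⟨?_, ?_, ?_, ?_⟩ <;> omega
  refine ⟨?_, ?_, ?_, ?_, ?_⟩
  · intro i j
    have h3 := e.col h lam (c7 i) (c7 j)
    have h4 : ((∑ χ ∈ X, u i χ * u j χ : ℤ) : ℂ) = ((if i = j then Num.co i else 0 : ℤ) : ℂ) := by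
      have h5 : ∀ χ ∈ X, (χ : E → ℂ) (e.fam (c7 i)) * conj ((χ : E → ℂ) (e.fam (c7 j))) =
          ((u i χ * u j χ : ℤ) : ℂ) := by
        intro χ hχ
        rw [e5 χ hχ, e5 χ hχ, map_intCast]
        push_cast; rfl
      rw [Finset.sum_congr rfl h5] at h3
      push_cast at h3 ⊢
      rw [h3]
      by_cases hij : i = j
      · rw [if_pos hij, if_pos (c7_inj.2 hij), ← nrm_c7]
        push_cast; rfl
      · rw [if_neg hij, if_neg (fun e => hij (c7_inj.1 e))]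
    exact_mod_cast h4
  · intro i j
    have h3 := uw i (w 0) (w 1) 9 (hne i).1 e3
    have h4 := uw i (w 2) (w 3) 10 (hne i).2 e4
    fin_cases j
    · exact h3.1
    · exact h3.2
    · exact h4.1
    · exact h4.2
  · obtain ⟨h3, h4, h5, h6⟩ := ww
    intro i j hi hj
    have hij : (i = 0 ∨ i = 1) ∧ (j = 2 ∨ j = 3) := by
      revert i j
      decide
    obtain ⟨rfl | rfl, rfl | rfl⟩ := hij
    · exact h3
    · exact h4
    · exact h5
    · exact h6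
  · have h3 := e.col h lam 7 7
    rw [if_pos rfl] at h3
    have h4 : ((∑ χ ∈ X, (w 0 χ * w 0 χ + w 0 χ * w 1 χ + 4 * (w 1 χ * w 1 χ)) : ℤ) : ℂ) = ((30 : ℤ) : ℂ) := by
      have h5 : ((30 : ℤ) : ℂ) = ((nrm 7 : ℕ) : ℂ) := by
        have : nrm 7 = 30 := rfl
        rw [this]; norm_num
      rw [h5, ← h3]
      push_cast
      refine Finset.sum_congr rfl fun χ hχ => ?_
      rw [e1 χ hχ, map_add, map_mul, conj_eta, map_intCast, map_intCast]
      linear_combination ((w 1 χ : ℂ) * w 1 χ) * eta_sq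
    exact_mod_cast h4
  · have h3 := e.col h lam 8 8
    rw [if_pos rfl] at h3
    have h4 : ((∑ χ ∈ X, (w 2 χ * w 2 χ + w 2 χ * w 3 χ + 4 * (w 3 χ * w 3 χ)) : ℤ) : ℂ) = ((30 : ℤ) : ℂ) := by
      have h5 : ((30 : ℤ) : ℂ) = ((nrm 8 : ℕ) : ℂ) := by
        have : nrm 8 = 30 := rfl
        rw [this]; norm_num
      rw [h5, ← h3]
      push_cast
      refine Finset.sum_congr rfl fun χ hχ => ?_
      rw [e2 χ hχ, map_add, map_mul, conj_eta, map_intCast, map_intCast]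
      linear_combination ((w 3 χ : ℂ) * w 3 χ) * eta_sq
    exact_mod_cast h4

end LocE

/-- **The count over `lam`.** -/
theorem card_over [Finite E] (h : Ext Z π) (L : Loc G) (hperf : commutator E = ⊤) {lam : Z →* ℂˣ} (hl : lam ≠ 1) :
    Nat.card {χ : IrrCharacter E // Over Z lam (χ : E → ℂ) ∧ ¬ 125 ∣ charDegree (χ : E → ℂ)} = 19 := by
  classical
  obtain ⟨e⟩ := exists_locE h L
  have := finite_irr (G := E)
  have := Fintype.ofFinite (IrrCharacter E)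
  have H : ∀ χ : IrrCharacter E, ∃ (u : Fin 7 → ℤ) (w : Fin 4 → ℤ), Over Z lam (χ : E → ℂ) →
      ((∀ i, (χ : E → ℂ) (e.fam7 i) = u i) ∧ (χ : E → ℂ) (e.X * e.W) = w 0 + w 1 * eta ∧
      (χ : E → ℂ) (e.T * (e.X * e.W)) = w 2 + w 3 * eta ∧ u 0 = charDegree (χ : E → ℂ) ∧
      ∃ a b c d i j : ℤ, Num.RowOK (u 0) (u 1) (u 2) (u 3) (u 4) (u 5) (u 6) (w 0) (w 1) (w 2) (w 3) a b c d i j) := by
    intro χ
    by_cases ho : Over Z lam (χ : E → ℂ)
    · obtain ⟨u, w, hh⟩ := e.row h hperf hl χ.2 ho (e.bessel h lam ho)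
      exact ⟨u, w, fun _ => hh⟩
    · exact ⟨0, 0, fun h1 => absurd h1 ho⟩
  choose u w hH using H
  have hG := e.gram h lam (fun i χ => u χ i) (fun i χ => w χ i) (fun χ ho i => (hH χ ho).1 i)
    (fun χ ho => (hH χ ho).2.1) (fun χ ho => (hH χ ho).2.2.1)
  have hc := Num.count hG (fun χ hχ => (hH χ (Finset.mem_filter.1 hχ).2).2.2.2.2)
  rw [Nat.card_eq_fintype_card, Fintype.card_subtype, ← hc]
  congr 1
  ext χ
  simp only [Finset.mem_filter, Finset.mem_univ, true_and]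
  constructor
  · rintro ⟨h1, h2⟩
    refine ⟨h1, fun h3 => h2 ?_⟩
    rw [(hH χ h1).2.2.2.1] at h3
    exact_mod_cast h3
  · rintro ⟨h1, h2⟩
    refine ⟨h1, fun h3 => h2 ?_⟩
    rw [(hH χ h1).2.2.2.1]
    exact_mod_cast h3

end Cfsg.Agent.H86.TI
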