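import Cfsg.Agent.H86.TI.Loc
import Cfsg.Agent.H86.TI.Bessel

/-!
# The count for `3.McL` (helper86, task 5085): the 17 columns
-/

set_option autoImplicit false
set_option linter.unusedSectionVars false

open Subgroup Cfsg
open scoped ComplexConjugate

namespace Cfsg.Agent.H86.TI

open Cfsg.Agent.H407.TI Cfsg.Agent.Characters.Core

universe u v

theorem cent_inv {G : Type*} [Group G] (g : G) : centralizer ({g⁻¹} : Set G) = centralizer ({g} : Set G) := by
  ext c
  rw [mem_centralizer_singleton_iff, mem_centralizer_singleton_iff]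
  exact (Commute.inv_right_iff (a := c) (b := g))

/-- centralizer orders -/
def nrm : Fin 17 → ℕ := ![898128000, 40320, 29160, 750, 25, 360, 30, 30, 30, 30, 30, 14, 14, 14, 14, 11, 11]

/-- orders -/
def ordf : Fin 17 → ℕ := ![1, 2, 3, 5, 5, 6, 10, 15, 30, 15, 30, 7, 7, 14, 14, 11, 11]

theorem pairs : ∀ i j : Fin 17, i ≠ j → ordf i ≠ ordf j ∨ ((i, j) ∈ [((3 : Fin 17), (4 : Fin 17)), (7, 9), (8, 10),
    (11, 12), (13, 14), (15, 16)] ∨ (j, i) ∈ [((3 : Fin 17), (4 : Fin 17)), (7, 9), (8, 10), (11, 12), (13, 14),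
    (15, 16)]) := by decide

section
variable {G : Type v} [Group G] (L : Loc G)

/-- the elements of `G` -/
def famG : Fin 17 → G := ![1, L.t, L.x, L.z, L.u, L.t * L.x, L.t * L.z, L.x * L.z, L.t * (L.x * L.z),
  (L.x * L.z)⁻¹, (L.t * (L.x * L.z))⁻¹, L.y, L.y⁻¹, L.t * L.y, (L.t * L.y)⁻¹, L.v, L.v⁻¹]

theorem Loc.c1 : Commute L.t L.x := L.tx
theorem Loc.c2 : Commute L.t L.z := L.tz
theorem Loc.c3 : Commute L.x L.z := L.xz
theorem Loc.c4 : Commute L.t L.y := L.ty
theorem Loc.c5 : Commute L.t (L.x * L.z) := L.c1.mul_right L.c2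

theorem Loc.t2 : L.t ^ 2 = 1 := by rw [← L.ot, pow_orderOf_eq_one]
theorem Loc.x3 : L.x ^ 3 = 1 := by rw [← L.ox, pow_orderOf_eq_one]
theorem Loc.z5 : L.z ^ 5 = 1 := by rw [← L.oz, pow_orderOf_eq_one]
theorem Loc.y7 : L.y ^ 7 = 1 := by rw [← L.oy, pow_orderOf_eq_one]

theorem Loc.otx : orderOf (L.t * L.x) = 6 := by
  rw [L.c1.orderOf_mul_eq_mul_orderOf_of_coprime (by rw [L.ot, L.ox]; norm_num), L.ot, L.ox]
theorem Loc.otz : orderOf (L.t * L.z) = 10 := by
  rw [L.c2.orderOf_mul_eq_mul_orderOf_of_coprime (by rw [L.ot, L.oz]; norm_num), L.ot, L.oz]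
theorem Loc.oxz : orderOf (L.x * L.z) = 15 := by
  rw [L.c3.orderOf_mul_eq_mul_orderOf_of_coprime (by rw [L.ox, L.oz]; norm_num), L.ox, L.oz]
theorem Loc.oty : orderOf (L.t * L.y) = 14 := by
  rw [L.c4.orderOf_mul_eq_mul_orderOf_of_coprime (by rw [L.ot, L.oy]; norm_num), L.ot, L.oy]
theorem Loc.otxz : orderOf (L.t * (L.x * L.z)) = 30 := by
  rw [L.c5.orderOf_mul_eq_mul_orderOf_of_coprime (by rw [L.ot, L.oxz]; norm_num), L.ot, L.oxz]

theorem pow_red {a : G} {n : ℕ} (ha : a ^ n = 1) (m : ℕ) : a ^ m = a ^ (m % n) := by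
  conv_lhs => rw [← Nat.div_add_mod m n, pow_add, pow_mul, ha, one_pow, one_mul]

theorem Loc.pow16 : (L.t * (L.x * L.z)) ^ 16 = L.x * L.z := by
  rw [L.c5.mul_pow, L.c3.mul_pow, pow_red L.t2 16, pow_red L.x3 16, pow_red L.z5 16]
  simp

theorem Loc.pow21 : (L.t * (L.x * L.z)) ^ 21 = L.t * L.z := by
  rw [L.c5.mul_pow, L.c3.mul_pow, pow_red L.t2 21, pow_red L.x3 21, pow_red L.z5 21]
  simp

theorem Loc.ntxz : ¬ IsConj (L.t * (L.x * L.z)) (L.t * (L.x * L.z))⁻¹ := by
  intro hc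
  obtain ⟨c, hc⟩ := isConj_iff.1 hc
  apply L.nxz
  refine isConj_iff.2 ⟨c, ?_⟩
  rw [← L.pow16, ← inv_pow, ← hc, conj_pow]

theorem Loc.ctxz : Nat.card (centralizer ({L.t * (L.x * L.z)} : Set G)) = 30 := by
  have : Finite G := Nat.finite_of_card_ne_zero (by rw [L.cardG]; norm_num)
  apply Nat.dvd_antisymm
  · rw [← L.ctz]
    apply card_dvd_of_le
    intro c hc
    rw [mem_centralizer_singleton_iff] at hc ⊢
    rw [← L.pow21]
    exact (Commute.pow_right hc 21).eq
  · rw [← L.otxz, ← Nat.card_zpowers]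
    apply card_dvd_of_le
    rw [zpowers_le]
    exact mem_centralizer_singleton_iff.2 rfl

theorem ordG : ∀ i, orderOf (famG L i) = ordf i := by
  intro i
  fin_cases i
  · exact orderOf_one
  · exact L.ot
  · exact L.ox
  · exact L.oz
  · exact L.ou
  · exact L.otx
  · exact L.otz
  · exact L.oxz
  · exact L.otxz
  · exact (orderOf_inv _).trans L.oxz
  · exact (orderOf_inv _).trans L.otxz
  · exact L.oy
  · exact (orderOf_inv _).trans L.oy
  · exact L.oty
  · exact (orderOf_inv _).trans L.oty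
  · exact L.ov
  · exact (orderOf_inv _).trans L.ov

theorem cardG : ∀ i, Nat.card (centralizer ({famG L i} : Set G)) = nrm i := by
  have hinv : ∀ (g : G) (n : ℕ), Nat.card (centralizer ({g} : Set G)) = n →
      Nat.card (centralizer ({g⁻¹} : Set G)) = n := fun g n h => by rw [cent_inv]; exact h
  intro i
  fin_cases i
  · show Nat.card (centralizer ({1} : Set G)) = 898128000
    rw [← L.cardG, ← card_top (G := G)]
    congr 1
    rw [show centralizer ({1} : Set G) = ⊤ from by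
      rw [eq_top_iff]; intro g _; exact mem_centralizer_singleton_iff.2 (by rw [mul_one, one_mul])]
  · exact L.ct
  · exact L.cx
  · exact L.cz
  · exact L.cu
  · exact L.ctx
  · exact L.ctz
  · exact L.cxz
  · exact L.ctxz
  · exact hinv _ _ L.cxz
  · exact hinv _ _ L.ctxz
  · exact L.cy
  · exact hinv _ _ L.cy
  · exact L.cty
  · exact hinv _ _ L.cty
  · exact L.cv
  · exact hinv _ _ L.cv

theorem orderOf_isConj {a b : G} (h : IsConj a b) : orderOf a = orderOf b := by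
  obtain ⟨c, rfl⟩ := isConj_iff.1 h
  exact (orderOf_injective (MulAut.conj c).toMonoidHom (MulAut.conj c).injective a).symm

theorem card_cent_isConj {a b : G} (h : IsConj a b) :
    Nat.card (centralizer ({a} : Set G)) = Nat.card (centralizer ({b} : Set G)) := by
  obtain ⟨c, rfl⟩ := isConj_iff.1 h
  refine Nat.card_congr ((MulAut.conj c).subgroupMap (centralizer ({a} : Set G))).toEquiv |>.trans ?_
  congr 1
  apply congrArg (fun K : Subgroup G => (K : Type _))
  ext g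
  rw [mem_centralizer_singleton_iff]
  constructor
  · rintro ⟨d, hd, rfl⟩
    have hd' := mem_centralizer_singleton_iff.1 hd
    show c * d * c⁻¹ * (c * a * c⁻¹) = c * a * c⁻¹ * (c * d * c⁻¹)
    calc c * d * c⁻¹ * (c * a * c⁻¹) = c * (d * a) * c⁻¹ := by group
      _ = c * a * c⁻¹ * (c * d * c⁻¹) := by rw [hd']; group
  · intro hg
    refine ⟨c⁻¹ * g * c, mem_centralizer_singleton_iff.2 ?_, ?_⟩
    · calc c⁻¹ * g * c * a = c⁻¹ * (g * (c * a * c⁻¹)) * c := by group
        _ = a * (c⁻¹ * g * c) := by rw [hg]; group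
    · show c * (c⁻¹ * g * c) * c⁻¹ = g
      group

theorem nconjG : ∀ i j, i ≠ j → ¬ IsConj (famG L i) (famG L j) := by
  have key : ∀ i j, (i, j) ∈ [((3 : Fin 17), (4 : Fin 17)), (7, 9), (8, 10), (11, 12), (13, 14), (15, 16)] →
      ¬ IsConj (famG L i) (famG L j) := by
    intro i j hij
    simp only [List.mem_cons, List.not_mem_nil, or_false, Prod.mk.injEq] at hij
    rcases hij with ⟨rfl, rfl⟩ | ⟨rfl, rfl⟩ | ⟨rfl, rfl⟩ | ⟨rfl, rfl⟩ | ⟨rfl, rfl⟩ | ⟨rfl, rfl⟩
    · intro hc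
      have h1 := card_cent_isConj hc
      rw [cardG, cardG] at h1
      exact absurd h1 (by decide)
    · exact L.nxz
    · exact L.ntxz
    · exact L.ny
    · exact L.nty
    · exact L.nv
  intro i j hij hc
  rcases pairs i j hij with h1 | h1 | h1
  · apply h1
    rw [← ordG L, ← ordG L]
    exact orderOf_isConj hc
  · exact key i j h1 hc
  · exact key j i h1 hc.symm

end

variable {E : Type u} [Group E] {Z : Subgroup E} {G : Type v} [Group G] {π : E →* G} {L : Loc G}

/-- the elements of `E` -/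
def LocE.fam (e : LocE π L) : Fin 17 → E := ![1, e.T, e.X, e.W, e.U, e.T * e.X, e.T * e.W, e.X * e.W,
  e.T * (e.X * e.W), (e.X * e.W)⁻¹, (e.T * (e.X * e.W))⁻¹, e.Y, e.Y⁻¹, e.T * e.Y, (e.T * e.Y)⁻¹, e.V, e.V⁻¹]

theorem LocE.map_fam (e : LocE π L) : ∀ i, π (e.fam i) = famG L i := by
  intro i
  fin_cases i <;>
    simp [LocE.fam, famG, e.πT, e.πX, e.πW, e.πU, e.πY, e.πV, mul_inv_rev]

theorem LocE.good (h : Ext Z π) (e : LocE π L) : ∀ i, Good π (e.fam i) := by
  have gT : Good π e.T := h.good_of_pow (n := 2) (by norm_num) (by rw [pow_two, e.T2])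
  have gW : Good π e.W := h.good_of_pow (n := 5) (by norm_num) e.W5
  have gY : Good π e.Y := h.good_of_pow (n := 7) (by norm_num) e.Y7
  have gV : Good π e.V := h.good_of_pow (n := 11) (by norm_num) e.V11
  have gTX : Good π (e.T * e.X) := by
    refine h.good_mul gT e.gX (m := 3) (n := 4) ?_ ?_
    · rw [e.πT, e.πX, L.c1.mul_pow, L.x3, pow_red L.t2 3]; simp
    · rw [e.πT, e.πX, L.c1.mul_pow, pow_red L.x3 4, pow_red L.t2 4]; simp
  have gTW : Good π (e.T * e.W) := by
    refine h.good_mul gT gW (m := 5) (n := 6) ?_ ?_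
    · rw [e.πT, e.πW, L.c2.mul_pow, L.z5, pow_red L.t2 5]; simp
    · rw [e.πT, e.πW, L.c2.mul_pow, pow_red L.z5 6, pow_red L.t2 6]; simp
  have gXW : Good π (e.X * e.W) := by
    refine h.good_mul e.gX gW (m := 10) (n := 6) ?_ ?_
    · rw [e.πX, e.πW, L.c3.mul_pow, pow_red L.z5 10, pow_red L.x3 10]; simp
    · rw [e.πX, e.πW, L.c3.mul_pow, pow_red L.z5 6, pow_red L.x3 6]; simp
  have gTXW : Good π (e.T * (e.X * e.W)) := by
    refine h.good_mul gT gXW (m := 15) (n := 16) ?_ ?_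
    · rw [map_mul, e.πT, e.πX, e.πW, L.c5.mul_pow, L.c3.mul_pow, pow_red L.z5 15, pow_red L.x3 15, pow_red L.t2 15]
      simp
    · rw [map_mul, e.πT, e.πX, e.πW, L.pow16]
  have gTY : Good π (e.T * e.Y) := by
    refine h.good_mul gT gY (m := 7) (n := 8) ?_ ?_
    · rw [e.πT, e.πY, L.c4.mul_pow, L.y7, pow_red L.t2 7]; simp
    · rw [e.πT, e.πY, L.c4.mul_pow, pow_red L.y7 8, pow_red L.t2 8]; simp
  intro i
  fin_cases i
  · exact h.good_one
  · exact gT
  · exact e.gX
  · exact gW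
  · exact h.good_of_pow (n := 5) (by norm_num) e.U5
  · exact gTX
  · exact gTW
  · exact gXW
  · exact gTXW
  · exact h.good_inv gXW
  · exact h.good_inv gTXW
  · exact gY
  · exact h.good_inv gY
  · exact gTY
  · exact h.good_inv gTY
  · exact gV
  · exact h.good_inv gV

/-- **the columns are orthogonal** -/
theorem LocE.col [Finite E] [Fintype (IrrCharacter E)] (h : Ext Z π) (e : LocE π L) (lam : Z →* ℂˣ)
    [DecidablePred fun χ : IrrCharacter E => Over Z lam (χ : E → ℂ)] (i j : Fin 17) :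
    ∑ χ ∈ Finset.univ.filter (fun χ : IrrCharacter E => Over Z lam (χ : E → ℂ)),
      (χ : E → ℂ) (e.fam i) * conj ((χ : E → ℂ) (e.fam j)) = if i = j then (nrm i : ℂ) else 0 := by
  split_ifs with hij
  · subst hij
    exact h.col_self lam (e.good h i) (by rw [e.map_fam, cardG])
  · exact h.col_ne lam (by rw [e.map_fam, e.map_fam]; exact nconjG L i j hij)

theorem LocE.bessel [Finite E] [Fintype (IrrCharacter E)] (h : Ext Z π) (e : LocE π L) (lam : Z →* ℂˣ)
    {ψ : IrrCharacter E} (hψ : Over Z lam (ψ : E → ℂ)) :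
    ∑ i, Complex.normSq ((ψ : E → ℂ) (e.fam i)) / nrm i ≤ 1 := by
  classical
  exact Cfsg.Agent.H86.TI.bessel (Finset.univ.filter fun χ : IrrCharacter E => Over Z lam (χ : E → ℂ))
    (fun i χ => (χ : E → ℂ) (e.fam i)) nrm (by decide) (fun i j => e.col h lam i j)
    (Finset.mem_filter.2 ⟨Finset.mem_univ _, hψ⟩)

end Cfsg.Agent.H86.TI
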