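import Cfsg.Agent.H407.TI.Over

/-!
# The count for `3.McL` (helper86, task 5085): lifting to a central extension by a group of order three

* `Ext E Z π` : `π : E → G` surjective with central kernel `Z` of order 3;
* `Good π g` : the centralizer of `π g` lifts to the centralizer of `g`;
* `col_self`, `col_ne` : column orthogonality over a linear character of `Z`.
-/

set_option autoImplicit false
set_option linter.unusedSectionVars false

open Subgroup Cfsg
open scoped ComplexConjugate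

namespace Cfsg.Agent.H86.TI

open Cfsg.Agent.H407.TI Cfsg.Agent.Characters.Core

universe u v

/-- the number of elements conjugating `g` to itself -/
theorem card_conj {G : Type*} [Group G] (g : G) :
    Nat.card {x : G // x * g * x⁻¹ = g} = Nat.card (centralizer ({g} : Set G)) := by
  refine Nat.card_congr (Equiv.subtypeEquivRight fun x => ?_)
  rw [mem_centralizer_singleton_iff, mul_inv_eq_iff_eq_mul]

theorem card_not_conj {G : Type*} [Group G] {g h : G} (hc : ¬ IsConj g h) :
    Nat.card {x : G // x * g * x⁻¹ = h} = 0 := by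
  have : IsEmpty {x : G // x * g * x⁻¹ = h} := ⟨fun ⟨x, hx⟩ => hc (isConj_iff.2 ⟨x, hx⟩)⟩
  exact Nat.card_of_isEmpty

/-- a central extension by a group of order three -/
structure Ext {E : Type u} [Group E] (Z : Subgroup E) {G : Type v} [Group G] (π : E →* G) : Prop where
  surj : Function.Surjective π
  ker : π.ker = Z
  cen : Z ≤ center E
  card : Nat.card Z = 3

/-- the centralizer of `π g` lifts to the centralizer of `g` -/
def Good {E : Type u} [Group E] {G : Type v} [Group G] (π : E →* G) (g : E) : Prop :=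
  ∀ c : E, π c * π g = π g * π c → c * g = g * c

variable {E : Type u} [Group E] {Z : Subgroup E} {G : Type v} [Group G] {π : E →* G}

namespace Ext

variable (h : Ext Z π)
include h

theorem mem_iff {z : E} : z ∈ Z ↔ π z = 1 := by rw [← h.ker, MonoidHom.mem_ker]

theorem cube {z : E} (hz : z ∈ Z) : z ^ 3 = 1 := by
  have h1 := pow_card_eq_one' (x := (⟨z, hz⟩ : Z))
  rw [h.card] at h1
  exact congrArg Subtype.val h1

theorem comm {z : E} (hz : z ∈ Z) (g : E) : z * g = g * z := (mem_center_iff.1 (h.cen hz) g).symm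

theorem eq_one_of_pow {z : E} (hz : z ∈ Z) {m : ℕ} (hm : ¬ 3 ∣ m) (hp : z ^ m = 1) : z = 1 := by
  have h1 : orderOf z ∣ 3 := orderOf_dvd_of_pow_eq_one (h.cube hz)
  have h2 : orderOf z ∣ m := orderOf_dvd_of_pow_eq_one hp
  rcases (Nat.dvd_prime Nat.prime_three).1 h1 with h3 | h3
  · exact orderOf_eq_one_iff.1 h3
  · rw [h3] at h2
    exact absurd h2 hm

/-- uniqueness of `3'`-lifts -/
theorem inj_of {g k : E} {m n : ℕ} (hm : ¬ 3 ∣ m) (hn : ¬ 3 ∣ n) (hg : g ^ m = 1) (hk : k ^ n = 1)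
    (he : π g = π k) : g = k := by
  have hz : g * k⁻¹ ∈ Z := by rw [h.mem_iff, map_mul, map_inv, he, mul_inv_cancel]
  have hcomm : Commute g k := by
    have h1 : (g * k⁻¹) * k = k * (g * k⁻¹) := h.comm hz k
    have h2 : g = k * (g * k⁻¹) := by rw [← h1]; group
    show g * k = k * g
    calc g * k = k * (g * k⁻¹) * k := by rw [← h2]
      _ = k * g := by group
  have h3 : (g * k⁻¹) ^ (m * n) = 1 := by
    rw [hcomm.inv_right.mul_pow, pow_mul, hg, one_pow, one_mul, mul_comm, pow_mul, inv_pow, hk, inv_one, one_pow]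
  exact mul_inv_eq_one.1 (h.eq_one_of_pow hz (fun h3 => by
    rcases Nat.prime_three.dvd_mul.1 h3 with h4 | h4
    · exact hm h4
    · exact hn h4) h3)

/-- existence of `3'`-lifts -/
theorem exists_lift (k : G) {n : ℕ} (hn : ¬ 3 ∣ n) (hk : k ^ n = 1) : ∃ g : E, π g = k ∧ g ^ n = 1 := by
  obtain ⟨g, hg⟩ := h.surj k
  have hz : g ^ n ∈ Z := by rw [h.mem_iff, map_pow, hg, hk]
  have h3 := h.cube hz
  have h1 : n % 3 = 1 ∨ n % 3 = 2 := by omega
  rcases h1 with h1 | h1
  · refine ⟨g ^ (1 + 2 * n), ?_, ?_⟩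
    · rw [map_pow, hg, pow_add, pow_one, mul_comm 2 n, pow_mul, hk, one_pow, mul_one]
    · obtain ⟨m, hm⟩ : 3 ∣ 1 + 2 * n := by omega
      rw [← pow_mul, mul_comm, pow_mul, hm, pow_mul, h3, one_pow]
  · refine ⟨g ^ (1 + n), ?_, ?_⟩
    · rw [map_pow, hg, pow_add, pow_one, hk, mul_one]
    · obtain ⟨m, hm⟩ : 3 ∣ 1 + n := by omega
      rw [← pow_mul, mul_comm, pow_mul, hm, pow_mul, h3, one_pow]

theorem good_of_pow {g : E} {n : ℕ} (hn : ¬ 3 ∣ n) (hg : g ^ n = 1) : Good π g := by
  intro c hc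
  have h1 : c * g * c⁻¹ = g := by
    refine h.inj_of hn hn ?_ hg ?_
    · rw [conj_pow, hg]; group
    · rw [map_mul, map_mul, map_inv, hc]; group
  exact mul_inv_eq_iff_eq_mul.1 h1

theorem good_one : Good π (1 : E) := fun c _ => by rw [mul_one, one_mul]

theorem good_mul {a b : E} (ha : Good π a) (hb : Good π b) {m n : ℕ} (hm : π a = (π a * π b) ^ m)
    (hn : π b = (π a * π b) ^ n) : Good π (a * b) := by
  intro c hc
  rw [map_mul] at hc
  have h1 : c * a = a * c := ha c (by rw [hm]; exact (Commute.pow_right hc m).eq)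
  have h2 : c * b = b * c := hb c (by rw [hn]; exact (Commute.pow_right hc n).eq)
  rw [← mul_assoc, h1, mul_assoc, h2, mul_assoc]

theorem good_inv {a : E} (ha : Good π a) : Good π a⁻¹ := by
  intro c hc
  rw [map_inv] at hc
  have h1 : Commute (π c) (π a) := (Commute.inv_right_iff.1 hc)
  exact (Commute.inv_right (show Commute c a from ha c h1)).eq

theorem isConj_of {g k : E} {m n : ℕ} (hm : ¬ 3 ∣ m) (hn : ¬ 3 ∣ n) (hg : g ^ m = 1) (hk : k ^ n = 1)
    (hc : IsConj (π g) (π k)) : IsConj g k := by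
  obtain ⟨c, hc⟩ := isConj_iff.1 hc
  obtain ⟨c, rfl⟩ := h.surj c
  refine isConj_iff.2 ⟨c, h.inj_of hm hn (by rw [conj_pow, hg]; group) hk ?_⟩
  rw [map_mul, map_mul, map_inv, hc]

theorem card_E : Nat.card E = 3 * Nat.card G := by
  have h1 : Z.index = Nat.card G := by
    rw [← h.ker, index_ker, MonoidHom.range_eq_top.2 h.surj, card_top]
  rw [← h1, ← h.card, card_mul_index]

theorem card_comap (S : Subgroup G) : Nat.card (S.comap π) = 3 * Nat.card S := by
  have h1 : Nat.card (S.comap π) = Nat.card ((π.comp (S.comap π).subtype).ker) * Nat.card (π.comp (S.comap π).subtype).range := by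
    rw [← card_mul_index (π.comp (S.comap π).subtype).ker, index_ker]
  rw [h1]
  congr 1
  · rw [← h.card]
    refine Nat.card_congr ⟨fun x => ⟨x.1.1, ?_⟩, fun z => ⟨⟨z.1, ?_⟩, ?_⟩, fun x => ?_, fun z => ?_⟩
    · exact h.mem_iff.2 x.2
    · rw [mem_comap, h.mem_iff.1 z.2]; exact S.one_mem
    · exact h.mem_iff.1 z.2
    · rfl
    · rfl
  · congr 1
    rw [MonoidHom.range_comp, range_subtype, map_comap_eq, MonoidHom.range_eq_top.2 h.surj, top_inf_eq]

theorem cent_eq {g : E} (hg : Good π g) : centralizer ({g} : Set E) = (centralizer ({π g} : Set G)).comap π := by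
  ext c
  rw [mem_comap, mem_centralizer_singleton_iff, mem_centralizer_singleton_iff]
  constructor
  · intro hc
    rw [← map_mul, hc, map_mul]
  · exact hg c

theorem card_cent {g : E} (hg : Good π g) :
    Nat.card (centralizer ({g} : Set E)) = 3 * Nat.card (centralizer ({π g} : Set G)) := by
  rw [h.cent_eq hg, h.card_comap]

theorem index_cent {g : E} (hg : Good π g) :
    (centralizer ({g} : Set E)).index = (centralizer ({π g} : Set G)).index := by
  rw [h.cent_eq hg, index_comap_of_surjective _ h.surj]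

/-! ### columns -/

/-- column orthogonality over `lam`, general -/
theorem sum_over' [Finite E] [Fintype (IrrCharacter E)] (lam : Z →* ℂˣ)
    [DecidablePred fun χ : IrrCharacter E => Over Z lam (χ : E → ℂ)] {g k : E}
    (hgk : ∀ z ∈ Z, z ≠ 1 → ¬ IsConj (z * g) k) :
    ∑ χ ∈ Finset.univ.filter (fun χ : IrrCharacter E => Over Z lam (χ : E → ℂ)), (χ : E → ℂ) g * conj ((χ : E → ℂ) k) =
      (Nat.card {x : E // x * g * x⁻¹ = k} : ℂ) / 3 := by
  classical
  have := Fintype.ofFinite E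
  have := Fintype.ofFinite Z
  have hZ0 : (3 : ℂ) ≠ 0 := by norm_num
  rw [eq_div_iff hZ0, Finset.sum_mul, Finset.sum_filter]
  have h3 : ∀ χ : IrrCharacter E, (if Over Z lam (χ : E → ℂ) then
      (χ : E → ℂ) g * conj ((χ : E → ℂ) k) * (3 : ℂ) else 0) =
      ∑ z : Z, (((lam z)⁻¹ : ℂˣ) : ℂ) * ((χ : E → ℂ) (z * g) * conj ((χ : E → ℂ) k)) := by
    intro χ
    have h4 := sum_lam h.cen lam χ.2 g
    rw [Finset.sum_congr rfl fun z _ => (mul_assoc _ _ _).symm, ← Finset.sum_mul, h4, h.card]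
    push_cast
    split_ifs <;> ring
  rw [Finset.sum_congr rfl fun χ _ => h3 χ, Finset.sum_comm, Finset.sum_congr rfl fun z _ => by
    rw [← Finset.mul_sum, S0876.sum_irr_mul_conj]]
  rw [Finset.sum_eq_single (1 : Z)]
  · rw [map_one, inv_one, Units.val_one, one_mul, Subgroup.coe_one, one_mul]
  · intro z _ hz
    rw [card_not_conj (hgk z z.2 fun e => hz (Subtype.ext e)), Nat.cast_zero, mul_zero]
  · intro h4
    exact absurd (Finset.mem_univ _) h4

/-- the norm of a column -/
theorem col_self [Finite E] [Fintype (IrrCharacter E)] (lam : Z →* ℂˣ)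
    [DecidablePred fun χ : IrrCharacter E => Over Z lam (χ : E → ℂ)] {g : E} (hg : Good π g) {n : ℕ}
    (hn : Nat.card (centralizer ({π g} : Set G)) = n) :
    ∑ χ ∈ Finset.univ.filter (fun χ : IrrCharacter E => Over Z lam (χ : E → ℂ)), (χ : E → ℂ) g * conj ((χ : E → ℂ) g) =
      n := by
  rw [h.sum_over' lam, card_conj g, h.card_cent hg, hn]
  · push_cast
    ring
  · intro z hz hz1 hc
    obtain ⟨c, hc⟩ := isConj_iff.1 hc
    have h1 : c⁻¹ * g = g * c⁻¹ := by
      apply hg
      rw [← map_mul, ← map_mul]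
      have h2 : g * c = c * (z * g) := (mul_inv_eq_iff_eq_mul.1 hc).symm
      have h3 : π z = 1 := h.mem_iff.1 hz
      have h4 : π g * π c = π c * π g := by
        have := congrArg π h2
        rwa [map_mul, map_mul, map_mul, h3, one_mul] at this
      rw [map_mul, map_mul, map_inv]
      have h5 : π g = π c * π g * (π c)⁻¹ := by rw [← h4]; group
      calc (π c)⁻¹ * π g = (π c)⁻¹ * (π c * π g * (π c)⁻¹) := by rw [← h5]
        _ = π g * (π c)⁻¹ := by group
    apply hz1
    have h6 : z * g = c⁻¹ * g * c := by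
      have : c⁻¹ * g * c = c⁻¹ * (c * (z * g) * c⁻¹) * c := by rw [hc]
      rw [this]; group
    rw [h1] at h6
    have h7 : z * g = 1 * g := by rw [h6]; group
    exact mul_right_cancel h7

/-- orthogonality of columns -/
theorem col_ne [Finite E] [Fintype (IrrCharacter E)] (lam : Z →* ℂˣ)
    [DecidablePred fun χ : IrrCharacter E => Over Z lam (χ : E → ℂ)] {g k : E} (hc : ¬ IsConj (π g) (π k)) :
    ∑ χ ∈ Finset.univ.filter (fun χ : IrrCharacter E => Over Z lam (χ : E → ℂ)), (χ : E → ℂ) g * conj ((χ : E → ℂ) k) =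
      0 := by
  have key : ∀ z ∈ Z, ¬ IsConj (z * g) k := by
    intro z hz h1
    obtain ⟨c, h1⟩ := isConj_iff.1 h1
    apply hc
    refine isConj_iff.2 ⟨π c, ?_⟩
    rw [← h1, map_mul, map_mul, map_mul, h.mem_iff.1 hz, one_mul, map_inv]
  rw [h.sum_over' lam (fun z hz _ => key z hz), card_not_conj (by
    have := key 1 Z.one_mem
    rwa [one_mul] at this)]
  simp

/-! ### an element of order three -/

/-- a lift inverted by a given element -/
theorem exists_inv {x c : G} (hx : c * x * c⁻¹ = x⁻¹) {C : E} (hC : π C = c) :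
    ∃ X : E, π X = x ∧ C * X * C⁻¹ = X⁻¹ ∧ (x ^ 3 = 1 → X ^ 3 = 1) := by
  obtain ⟨X0, hX0⟩ := h.surj x
  have hz : C * X0 * C⁻¹ * X0 ∈ Z := by
    rw [h.mem_iff, map_mul, map_mul, map_mul, map_inv, hC, hX0, hx, inv_mul_cancel]
  obtain ⟨z, hz1⟩ : ∃ z, z = C * X0 * C⁻¹ * X0 := ⟨_, rfl⟩
  rw [← hz1] at hz
  have hc := h.comm hz
  have h3 := h.cube hz
  have e1 : C * X0 * C⁻¹ = z * X0⁻¹ := by rw [hz1]; group
  have inv : C * (X0 * z) * C⁻¹ = (X0 * z)⁻¹ := by
    have e2 : C * (X0 * z) * C⁻¹ = C * X0 * C⁻¹ * z := by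
      have : C * (X0 * z) * C⁻¹ = C * X0 * (z * C⁻¹) := by group
      rw [this, hc C⁻¹]; group
    rw [e2, e1, mul_inv_rev, hc X0⁻¹, mul_assoc, ← pow_two]
    have e3 : z ^ 2 = z⁻¹ := eq_inv_of_mul_eq_one_left (by rw [← pow_succ]; exact h3)
    rw [e3]
    exact (h.comm (Z.inv_mem hz) X0⁻¹).symm
  have hX : π (X0 * z) = x := by rw [map_mul, hX0, h.mem_iff.1 hz, mul_one]
  refine ⟨X0 * z, hX, inv, fun hx3 => ?_⟩
  have h6 : (X0 * z) ^ 3 ∈ Z := by rw [h.mem_iff, map_pow, hX, hx3]
  have h7 : C * (X0 * z) ^ 3 * C⁻¹ = (X0 * z) ^ 3 := by rw [← h.comm h6 C]; group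
  have h8 : C * (X0 * z) ^ 3 * C⁻¹ = ((X0 * z) ^ 3)⁻¹ := by rw [← conj_pow, inv, inv_pow]
  refine h.eq_one_of_pow h6 (m := 2) (by norm_num) ?_
  rw [h7] at h8
  rw [pow_two]
  nth_rewrite 2 [h8]
  exact mul_inv_cancel _

/-- the criterion for elements of order three -/
theorem good_three [Finite E] {x : G} {X : E} (hX : π X = x) (h3 : ¬ 3 ^ 8 ∣ Nat.card E) {S : Subgroup G}
    (hS : Nat.card S = 729)
    (hgen : S ≤ closure ({x} ∪ {g : G | g * x = x * g ∧ ¬ 3 ∣ orderOf g})) : Good π X := by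
  classical
  let C : Subgroup E := (centralizer ({x} : Set G)).comap π
  have hCz : ∀ c : C, (c : E) * X * (c : E)⁻¹ * X⁻¹ ∈ Z := by
    intro c
    have h1 : π c * x = x * π c := mem_centralizer_singleton_iff.1 c.2
    rw [h.mem_iff, map_mul, map_mul, map_mul, map_inv, map_inv, hX, h1]
    group
  let φ : C →* Z := MonoidHom.mk' (fun c => ⟨(c : E) * X * (c : E)⁻¹ * X⁻¹, hCz c⟩) (by
    intro c d
    apply Subtype.ext
    show ((c : E) * d) * X * ((c : E) * d)⁻¹ * X⁻¹ = (c * X * (c : E)⁻¹ * X⁻¹) * (d * X * (d : E)⁻¹ * X⁻¹)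
    have h1 := h.comm (hCz d)
    calc ((c : E) * d) * X * ((c : E) * d)⁻¹ * X⁻¹ = c * ((d : E) * X * (d : E)⁻¹ * X⁻¹) * X * (c : E)⁻¹ * X⁻¹ := by group
      _ = ((d : E) * X * (d : E)⁻¹ * X⁻¹) * c * X * (c : E)⁻¹ * X⁻¹ := by rw [h1 c]
      _ = ((d : E) * X * (d : E)⁻¹ * X⁻¹) * (c * X * (c : E)⁻¹ * X⁻¹) := by group
      _ = _ := by rw [h1])
  have hφ : ∀ c : C, φ c = 1 ↔ (c : E) * X = X * c := by
    intro c
    rw [Subtype.ext_iff]
    show (c : E) * X * (c : E)⁻¹ * X⁻¹ = 1 ↔ _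
    rw [mul_inv_eq_one, mul_inv_eq_iff_eq_mul]
  -- the subgroup of `G`
  let K : Subgroup G := (centralizer ({X} : Set E)).map π
  have hSK : S ≤ K := by
    refine hgen.trans ?_
    rw [closure_le]
    rintro g (hg | ⟨hg, hg3⟩)
    · rw [Set.mem_singleton_iff] at hg
      subst hg
      exact ⟨X, mem_centralizer_singleton_iff.2 rfl, hX⟩
    · obtain ⟨c, hc, hcn⟩ := h.exists_lift g hg3 (pow_orderOf_eq_one g)
      refine ⟨c, mem_centralizer_singleton_iff.2 ?_, hc⟩
      have h1 : X * c * X⁻¹ = c := by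
        refine h.inj_of hg3 hg3 (by rw [conj_pow, hcn]; group) hcn ?_
        rw [map_mul, map_mul, map_inv, hX, hc, ← hg]
        group
      exact (mul_inv_eq_iff_eq_mul.1 h1).symm
  have hcent : ∀ c : E, π c ∈ K → c * X = X * c := by
    rintro c ⟨d, hd, hdc⟩
    have h1 : c * d⁻¹ ∈ Z := by rw [h.mem_iff, map_mul, map_inv, hdc, mul_inv_cancel]
    have h2 := h.comm h1 X
    have h3' : d * X = X * d := mem_centralizer_singleton_iff.1 hd
    calc c * X = (c * d⁻¹) * (d * X) := by group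
      _ = (c * d⁻¹ * X) * d := by rw [h3']; group
      _ = X * c := by rw [h2]; group
  -- the kernel
  have hker : 3 ^ 7 ∣ Nat.card φ.ker := by
    have h1 : Nat.card (S.comap π) = 3 ^ 7 := by rw [h.card_comap, hS]; norm_num
    rw [← h1]
    have hle : ∀ c ∈ S.comap π, π c * x = x * π c := by
      intro c hc
      have h2 := hcent c (hSK hc)
      have := congrArg π h2
      rwa [map_mul, map_mul, hX] at this
    let f : S.comap π →* C := (S.comap π).subtype.codRestrict C (fun c => mem_centralizer_singleton_iff.2 (hle c c.2))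
    have hf : Function.Injective f := fun a b hab => Subtype.ext (congrArg (fun w : C => (w : E)) hab)
    have h2 : f.range ≤ φ.ker := by
      rintro _ ⟨c, rfl⟩
      rw [MonoidHom.mem_ker, hφ]
      exact hcent c (hSK c.2)
    rw [Nat.card_congr (Equiv.ofInjective f hf)]
    exact card_dvd_of_le h2
  have hcard : Nat.card C = Nat.card φ.ker * Nat.card φ.range := by
    rw [← card_mul_index φ.ker, index_ker]
  have h4 : Nat.card φ.range ∣ 3 := by rw [← h.card]; exact card_subgroup_dvd_card _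
  rcases (Nat.dvd_prime Nat.prime_three).1 h4 with h5 | h5
  · intro c hc
    have h6 : φ.range = ⊥ := card_eq_one.1 h5
    have h7 : φ ⟨c, mem_centralizer_singleton_iff.2 (by rw [← hX]; exact hc)⟩ = 1 := by
      have : φ ⟨c, mem_centralizer_singleton_iff.2 (by rw [← hX]; exact hc)⟩ ∈ φ.range := ⟨_, rfl⟩
      rwa [h6, mem_bot] at this
    exact (hφ _).1 h7
  · exfalso
    apply h3
    have h6 : 3 ^ 8 ∣ Nat.card C := by
      rw [hcard, h5, pow_succ]
      exact Nat.mul_dvd_mul_right hker 3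
    exact h6.trans (card_subgroup_dvd_card C)

end Ext

end Cfsg.Agent.H86.TI
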