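import Cfsg.Agent.H86.TI.Lift

/-!
# The count for `3.McL` (helper86, task 5085): the local facts, in `G` and in the extension `E`
-/

set_option autoImplicit false
set_option linter.unusedSectionVars false

open Subgroup Cfsg

namespace Cfsg.Agent.H86.TI

universe u v

/-- the local facts on `McL` -/
structure Loc (G : Type v) [Group G] where
  t : G
  x : G
  z : G
  u : G
  h : G
  q : G
  r : G
  y : G
  m : G
  v : G
  V : Subgroup G
  P : Subgroup G
  S : Subgroup G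
  cardG : Nat.card G = 898128000
  ot : orderOf t = 2
  ox : orderOf x = 3
  oz : orderOf z = 5
  ou : orderOf u = 5
  oy : orderOf y = 7
  ov : orderOf v = 11
  tx : t * x = x * t
  tz : t * z = z * t
  xz : x * z = z * x
  ty : t * y = y * t
  ht : h * t = t * h
  hx : h * x * h⁻¹ = x⁻¹
  hz : h * z * h⁻¹ = z ^ 2
  qq : q * q = t
  qx : q * x = x * q
  rx : r * x = x * r
  rq : r * q * r⁻¹ = q⁻¹
  uu : IsConj u (u ^ 2)
  my : m * y * m⁻¹ = y ^ 2
  mt : m * t = t * m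
  vv : IsConj v (v ^ 3)
  cardV : Nat.card V = 16
  tV : ∀ g ∈ V, g ≠ 1 → IsConj t g
  cardP : Nat.card P = 125
  zP : z ∈ P
  uP : ∀ g ∈ P, g ∉ zpowers z → IsConj u g
  cardS : Nat.card S = 729
  genS : S ≤ closure ({x} ∪ {g : G | g * x = x * g ∧ ¬ 3 ∣ orderOf g})
  ct : Nat.card (centralizer ({t} : Set G)) = 40320
  cx : Nat.card (centralizer ({x} : Set G)) = 29160
  cz : Nat.card (centralizer ({z} : Set G)) = 750
  cu : Nat.card (centralizer ({u} : Set G)) = 25
  ctx : Nat.card (centralizer ({t * x} : Set G)) = 360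
  ctz : Nat.card (centralizer ({t * z} : Set G)) = 30
  cxz : Nat.card (centralizer ({x * z} : Set G)) = 30
  cy : Nat.card (centralizer ({y} : Set G)) = 14
  cty : Nat.card (centralizer ({t * y} : Set G)) = 14
  cv : Nat.card (centralizer ({v} : Set G)) = 11
  nxz : ¬ IsConj (x * z) (x * z)⁻¹
  ny : ¬ IsConj y y⁻¹
  nty : ¬ IsConj (t * y) (t * y)⁻¹
  nv : ¬ IsConj v v⁻¹

/-- the lifted elements -/
structure LocE {E : Type u} [Group E] {G : Type v} [Group G] (π : E →* G) (L : Loc G) where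
  T : E
  X : E
  W : E
  U : E
  Y : E
  V : E
  Q : E
  H : E
  R : E
  M : E
  πT : π T = L.t
  πX : π X = L.x
  πW : π W = L.z
  πU : π U = L.u
  πY : π Y = L.y
  πV : π V = L.v
  T2 : T * T = 1
  X3 : X ^ 3 = 1
  W5 : W ^ 5 = 1
  U5 : U ^ 5 = 1
  Y7 : Y ^ 7 = 1
  V11 : V ^ 11 = 1
  TX : T * X = X * T
  TW : T * W = W * T
  XW : X * W = W * X
  TY : T * Y = Y * T
  HT : H * T * H⁻¹ = T
  HX : H * X * H⁻¹ = X⁻¹
  HW : H * W * H⁻¹ = W ^ 2
  QQ : Q * Q = T
  QX : Q * X = X * Q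
  RX : R * X = X * R
  RQ : R * Q * R⁻¹ = Q⁻¹
  UU : IsConj U (U ^ 2)
  MY : M * Y * M⁻¹ = Y ^ 2
  MT : M * T = T * M
  VV : IsConj V (V ^ 3)
  gX : Good π X

variable {E : Type u} [Group E] {Z : Subgroup E} {G : Type v} [Group G] {π : E →* G}

theorem exists_locE [Finite E] (h : Ext Z π) (L : Loc G) : Nonempty (LocE π L) := by
  have p3 : ∀ {n : ℕ}, ¬ 3 ∣ n → ∀ {g : E}, g ^ n = 1 → Good π g := fun hn _ hg => h.good_of_pow hn hg
  obtain ⟨T, πT, T2⟩ := h.exists_lift L.t (n := 2) (by norm_num) (by rw [← L.ot, pow_orderOf_eq_one])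
  obtain ⟨W, πW, W5⟩ := h.exists_lift L.z (n := 5) (by norm_num) (by rw [← L.oz, pow_orderOf_eq_one])
  obtain ⟨U, πU, U5⟩ := h.exists_lift L.u (n := 5) (by norm_num) (by rw [← L.ou, pow_orderOf_eq_one])
  obtain ⟨Y, πY, Y7⟩ := h.exists_lift L.y (n := 7) (by norm_num) (by rw [← L.oy, pow_orderOf_eq_one])
  obtain ⟨V, πV, V11⟩ := h.exists_lift L.v (n := 11) (by norm_num) (by rw [← L.ov, pow_orderOf_eq_one])
  have hq4 : L.q ^ 4 = 1 := by
    rw [show L.q ^ 4 = (L.q * L.q) ^ 2 by rw [← pow_two, ← pow_mul], L.qq, ← L.ot, pow_orderOf_eq_one]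
  obtain ⟨Q, πQ, Q4⟩ := h.exists_lift L.q (n := 4) (by norm_num) hq4
  obtain ⟨H, πH⟩ := h.surj L.h
  obtain ⟨R, πR⟩ := h.surj L.r
  obtain ⟨M, πM⟩ := h.surj L.m
  obtain ⟨X, πX, HX, X3⟩ := h.exists_inv L.hx πH
  have X3 := X3 (by rw [← L.ox, pow_orderOf_eq_one])
  have gX : Good π X := h.good_three πX (by
    rw [h.card_E, L.cardG]; norm_num) L.cardS L.genS
  have gT : Good π T := p3 (by norm_num) T2
  have gW : Good π W := p3 (by norm_num) W5
  refine ⟨{ T := T, X := X, W := W, U := U, Y := Y, V := V, Q := Q, H := H, R := R, M := M, πT := πT, πX := πX, πW := πW,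
            πU := πU, πY := πY, πV := πV, T2 := by rw [← pow_two]; exact T2, X3 := X3, W5 := W5, U5 := U5, Y7 := Y7,
            V11 := V11, HX := HX, gX := gX, TX := ?_, TW := ?_, XW := ?_, TY := ?_, HT := ?_, HW := ?_, QQ := ?_,
            QX := ?_, RX := ?_, RQ := ?_, UU := ?_, MY := ?_, MT := ?_, VV := ?_ }⟩
  · exact gX T (by rw [πT, πX, L.tx])
  · exact gW T (by rw [πT, πW, L.tz])
  · exact gW X (by rw [πX, πW, L.xz])
  · exact (gT Y (by rw [πT, πY, L.ty])).symm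
  · have h1 : H * T = T * H := gT H (by rw [πT, πH, L.ht])
    rw [h1]; group
  · refine h.inj_of (m := 5) (n := 5) (by norm_num) (by norm_num) (by rw [conj_pow, W5]; group)
      (by rw [← pow_mul, mul_comm, pow_mul, W5, one_pow]) ?_
    rw [map_mul, map_mul, map_inv, map_pow, πH, πW, L.hz]
  · refine h.inj_of (m := 2) (n := 2) (by norm_num) (by norm_num) ?_ T2 ?_
    · rw [show (Q * Q) ^ 2 = Q ^ 4 by rw [← pow_two, ← pow_mul], Q4]
    · rw [map_mul, πQ, L.qq, πT]
  · exact gX Q (by rw [πQ, πX, L.qx])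
  · exact gX R (by rw [πR, πX, L.rx])
  · refine h.inj_of (m := 4) (n := 4) (by norm_num) (by norm_num) (by rw [conj_pow, Q4]; group)
      (by rw [inv_pow, Q4, inv_one]) ?_
    rw [map_mul, map_mul, map_inv, map_inv, πR, πQ, L.rq]
  · exact h.isConj_of (m := 5) (n := 5) (by norm_num) (by norm_num) U5
      (by rw [← pow_mul, mul_comm, pow_mul, U5, one_pow]) (by rw [map_pow, πU]; exact L.uu)
  · refine h.inj_of (m := 7) (n := 7) (by norm_num) (by norm_num) (by rw [conj_pow, Y7]; group)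
      (by rw [← pow_mul, mul_comm, pow_mul, Y7, one_pow]) ?_
    rw [map_mul, map_mul, map_inv, map_pow, πM, πY, L.my]
  · exact gT M (by rw [πM, πT, L.mt])
  · exact h.isConj_of (m := 11) (n := 11) (by norm_num) (by norm_num) V11
      (by rw [← pow_mul, mul_comm, pow_mul, V11, one_pow]) (by rw [map_pow, πV]; exact L.vv)

end Cfsg.Agent.H86.TI
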