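import Mathlib

/-!
# The count for `3.McL` (helper86, task 5085): the numerical part

* `RowOK` : the conditions on the values of a character at `1, t, x, z, u, tx, tz, xz, txz` (and at elements of order 7,
  14, 11);
* `rows` : they imply two quadratic inequalities (enumeration);
* `count` : if the columns are orthogonal, 19 characters have degree prime to 125.
-/

set_option autoImplicit false

namespace Cfsg.Agent.H86.TI.Num

/-- the conditions on the values of one character -/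
structure RowOK (d a2 a3 a5 b5 a6 a10 p q r s e f g k i j : ℤ) : Prop where
  pos : 0 < d
  three : (3 : ℤ) ∣ d
  dvd : d ∣ 2694384000
  div2 : d ∣ 22275 * a2
  div3 : d ∣ 30800 * a3
  c16 : (16 : ℤ) ∣ a2 - d
  c5 : (5 : ℤ) ∣ d + 4 * b5
  c125 : (125 : ℤ) ∣ d + 4 * a5 + 120 * b5
  c10 : (5 : ℤ) ∣ a10 - a2
  c10' : (2 : ℤ) ∣ a10 - a5
  c3 : (3 : ℤ) ∣ a3 - d
  c6 : (3 : ℤ) ∣ a6 - a2
  c6' : (4 : ℤ) ∣ a6 - a3
  c15 : (3 : ℤ) ∣ a5 - p + q
  c15' : (5 : ℤ) ∣ a3 - p - 3 * q
  c30 : (3 : ℤ) ∣ a10 - r + s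
  c30' : (5 : ℤ) ∣ a6 - r - 3 * s
  cr : (2 : ℤ) ∣ r - p
  cs : (2 : ℤ) ∣ s - q
  c7 : (7 : ℤ) ∣ d - e - 3 * f
  c14 : (7 : ℤ) ∣ a2 - g - 3 * k
  c11 : (11 : ℤ) ∣ d - i - 5 * j
  norm : d * d + 22275 * (a2 * a2) + 30800 * (a3 * a3) + 1197504 * (a5 * a5) + 35925120 * (b5 * b5) +
    2494800 * (a6 * a6) + 29937600 * (a10 * a10) + 59875200 * (p * p + p * q + 4 * (q * q)) +
    59875200 * (r * r + r * s + 4 * (s * s)) + 128304000 * (e * e - e * f + 2 * (f * f)) +
    128304000 * (g * g - g * k + 2 * (k * k)) + 163296000 * (i * i - i * j + 3 * (j * j)) ≤ 898128000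

/-- the form of the upper bound -/
def Qu (d a2 a3 a5 b5 a6 a10 p q r s : ℤ) : ℤ :=
  11 * (d * d) + (-1153269 * (d * a2)) + 1271470 * (d * a3) + (-2497982 * (d * a5)) + 14987894 * (d * b5) +
    3939944 * (d * a6) + 71103767 * (d * a10) + 105964312 * (a2 * a2) + (-226246821 * (a2 * a3)) +
    1630734222 * (a2 * a5) + (-23789700220 * (a2 * b5)) + (-1065363421 * (a2 * a6)) +
    (-7569506029 * (a2 * a10)) + 164886078 * (a3 * a3) + (-9998523022 * (a3 * a5)) + 70272836877 * (a3 * b5) +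
    (-329086264 * (a3 * a6)) + 49480141349 * (a3 * a10) + 32559524348 * (a5 * a5) + 143681769066 * (a5 * b5) +
    (-38542704086 * (a5 * a6)) + (-216611267801 * (a5 * a10)) + (-1033353490900 * (b5 * b5)) +
    136360573417 * (b5 * a6) + (-950426876768 * (b5 * a10)) + 12223544808 * (a6 * a6) +
    93750435299 * (a6 * a10) + (-96343293994 * (a10 * a10)) + 77070831 * (d * p) + (-676949669 * (d * q)) +
    (-170716625 * (d * r)) + (-996156329 * (d * s)) + (-1349979137 * (a2 * p)) + 74016915005 * (a2 * q) +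
    11347263319 * (a2 * r) + 58879215067 * (a2 * s) + (-24644455924 * (a3 * p)) + 37794901544 * (a3 * q) +
    (-52690202705 * (a3 * r)) + 77620229973 * (a3 * s) + 346801788672 * (a5 * p) + 269637127258 * (a5 * q) +
    (-144333630504 * (a5 * r)) + 121325298519 * (a5 * s) + 734942580090 * (b5 * p) + 865093556180 * (b5 * q) +
    3098386676412 * (b5 * r) + 693360429004 * (b5 * s) + (-170980290007 * (a6 * p)) + 36217169733 * (a6 * q) +
    (-38299068349 * (a6 * r)) + 75946080176 * (a6 * s) + (-659277806191 * (a10 * p)) +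
    435247916888 * (a10 * q) + 1027536918570 * (a10 * r) + 530376468347 * (a10 * s) +
    (-1124980322200 * (p * r)) + 1442834635405 * (p * s) + (-2453813814690 * (q * r)) +
    (-258903772547 * (q * s)) + 1420657354163 * (p * p + p * q + 4 * (q * q)) +
    (-1075921518259 * (r * r + r * s + 4 * (s * s)))

/-- the form of the lower bound -/
def Ql (d a2 a3 a5 b5 a6 a10 p q r s : ℤ) : ℤ :=
  (-11 * (d * d)) + 313922 * (d * a2) + (-453897 * (d * a3)) + (-13040263 * (d * a5)) + 78241579 * (d * b5) +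
    1153412 * (d * a6) + 16671002 * (d * a10) + (-49023810 * (a2 * a2)) + 232474366 * (a2 * a3) +
    (-2066569595 * (a2 * a5)) + 17111667806 * (a2 * b5) + (-1623110302 * (a2 * a6)) + 3795911218 * (a2 * a10) +
    (-257200540 * (a3 * a3)) + 12830005980 * (a3 * a5) + (-70272836869 * (a3 * b5)) + 2798310447 * (a3 * a6) +
    (-38540923800 * (a3 * a10)) + (-15643449068 * (a5 * a5)) + (-17546123980 * (a5 * b5)) +
    17078561593 * (a5 * a6) + 210205858842 * (a5 * a10) + 1667560910143 * (b5 * b5) +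
    (-87348872009 * (b5 * a6)) + 326735639552 * (b5 * a10) + (-9146863004 * (a6 * a6)) +
    (-126011940160 * (a6 * a10)) + (-322893821424 * (a10 * a10)) + 45667520 * (d * p) + 24724906 * (d * q) +
    144452241 * (d * r) + (-13745077 * (d * s)) + (-12377219988 * (a2 * p)) + 4758331131 * (a2 * q) +
    (-1422408386 * (a2 * r)) + (-119467875 * (a2 * s)) + 39758222647 * (a3 * p) + (-6028285388 * (a3 * q)) +
    21157795860 * (a3 * r) + (-804523974 * (a3 * s)) + (-483708235285 * (a5 * p)) + (-142631319228 * (a5 * q)) +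
    33563300807 * (a5 * r) + (-26018364310 * (a5 * s)) + (-108797417777 * (b5 * p)) + 150276133942 * (b5 * q) +
    (-3098386676660 * (b5 * r)) + (-810920538323 * (b5 * s)) + 79479578751 * (a6 * p) +
    (-6602208495 * (a6 * q)) + 191862681910 * (a6 * r) + 129743194997 * (a6 * s) + 644802092289 * (a10 * p) +
    (-441371004768 * (a10 * q)) + (-839998266149 * (a10 * r)) + (-495744911837 * (a10 * s)) +
    1177159365280 * (p * r) + 300549291498 * (p * s) + 794263885555 * (q * r) + 114214135319 * (q * s) +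
    (-1320245534861 * (p * p + p * q + 4 * (q * q))) + 1696739080491 * (r * r + r * s + 4 * (s * s))

/-! ### small norms -/

/-- minimal norms mod 7 -/
def t7 (x : ℤ) : ℤ := if x % 7 = 0 then 0 else if x % 7 = 1 ∨ x % 7 = 6 then 1 else if x % 7 = 3 ∨ x % 7 = 4 then 2 else 4

/-- minimal norms mod 11 -/
def t11 (x : ℤ) : ℤ := if x % 11 = 0 then 0 else if x % 11 = 1 ∨ x % 11 = 10 then 1 else
  if x % 11 = 5 ∨ x % 11 = 6 then 3 else if x % 11 = 2 ∨ x % 11 = 9 then 4 else
  if x % 11 = 4 ∨ x % 11 = 7 then 5 else 9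

theorem t7_le {x e f : ℤ} (h : (7 : ℤ) ∣ x - e - 3 * f) : t7 x ≤ e * e - e * f + 2 * (f * f) := by
  by_contra hlt
  push Not at hlt
  have h4 : t7 x ≤ 4 := by unfold t7; split_ifs <;> norm_num
  have hN : e * e - e * f + 2 * (f * f) ≤ 3 := by omega
  have h1 : (2 * e - f) ^ 2 + 7 * f ^ 2 ≤ 12 := by nlinarith
  have hf1 : -1 ≤ f := by nlinarith [sq_nonneg (2 * e - f)]
  have hf2 : f ≤ 1 := by nlinarith [sq_nonneg (2 * e - f)]
  have he1 : -4 ≤ 2 * e - f := by nlinarith [sq_nonneg f]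
  have he2 : 2 * e - f ≤ 4 := by nlinarith [sq_nonneg f]
  have he3 : -2 ≤ e := by omega
  have he4 : e ≤ 2 := by omega
  unfold t7 at hlt
  interval_cases f <;> interval_cases e <;> split_ifs at hlt <;> omega

theorem t11_le {x i j : ℤ} (h : (11 : ℤ) ∣ x - i - 5 * j) : t11 x ≤ i * i - i * j + 3 * (j * j) := by
  by_contra hlt
  push Not at hlt
  have h4 : t11 x ≤ 9 := by unfold t11; split_ifs <;> norm_num
  have hN : i * i - i * j + 3 * (j * j) ≤ 8 := by omega
  have h1 : (2 * i - j) ^ 2 + 11 * j ^ 2 ≤ 32 := by nlinarith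
  have hf1 : -1 ≤ j := by nlinarith [sq_nonneg (2 * i - j)]
  have hf2 : j ≤ 1 := by nlinarith [sq_nonneg (2 * i - j)]
  have he1 : -6 ≤ 2 * i - j := by nlinarith [sq_nonneg j]
  have he2 : 2 * i - j ≤ 6 := by nlinarith [sq_nonneg j]
  have he3 : -3 ≤ i := by omega
  have he4 : i ≤ 3 := by omega
  unfold t11 at hlt
  interval_cases j <;> interval_cases i <;> split_ifs at hlt <;> omega

/-- the pairs with small norm -/
def L15 : List (ℤ × ℤ × ℤ) := [(15, 1, -2), (10, -2, -1), (6, -1, -1), (4, 0, -1), (4, 1, -1), (6, 2, -1), (10, 3, -1), (9, -3, 0), (4, -2, 0),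
  (1, -1, 0), (0, 0, 0), (1, 1, 0), (4, 2, 0), (9, 3, 0), (10, -3, 1), (6, -2, 1), (4, -1, 1), (4, 0, 1), (6, 1, 1),
  (10, 2, 1), (15, -1, 2)]

theorem mem_L15 {p q : ℤ} (h : p * p + p * q + 4 * (q * q) ≤ 15) : (p * p + p * q + 4 * (q * q), p, q) ∈ L15 := by
  have h1 : (2 * p + q) ^ 2 + 15 * q ^ 2 ≤ 60 := by nlinarith
  have hq1 : -2 ≤ q := by nlinarith [sq_nonneg (2 * p + q)]
  have hq2 : q ≤ 2 := by nlinarith [sq_nonneg (2 * p + q)]
  have hp1 : -8 ≤ 2 * p + q := by nlinarith [sq_nonneg q]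
  have hp2 : 2 * p + q ≤ 8 := by nlinarith [sq_nonneg q]
  have hp3 : -5 ≤ p := by omega
  have hp4 : p ≤ 5 := by omega
  interval_cases q <;> interval_cases p <;> first | (exfalso; omega) | decide

/-! ### loops -/

/-- evaluate the argument first -/
def force (x : ℤ) (f : ℤ → Bool) : Bool :=
  match x with
  | Int.ofNat 0 => f 0
  | Int.ofNat (m + 1) => f (Int.ofNat (m + 1))
  | Int.negSucc 0 => f (-1)
  | Int.negSucc (m + 1) => f (Int.negSucc (m + 1))

theorem force_eq (x : ℤ) (f : ℤ → Bool) : force x f = f x := by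
  rcases x with (_ | m) | (_ | m) <;> rfl

/-- all numbers below `n` -/
def allN (n : ℕ) (f : ℕ → Bool) : Bool := Nat.rec true (fun k ih => f k && ih) n

theorem allN_spec {f : ℕ → Bool} : ∀ {n : ℕ}, allN n f = true → ∀ k < n, f k = true
  | 0, _, k, hk => absurd hk (by omega)
  | n + 1, h, k, hk => by
    have h' : (f n && allN n f) = true := h
    rw [Bool.and_eq_true] at h'
    rcases Nat.lt_succ_iff_lt_or_eq.1 hk with h1 | rfl
    · exact allN_spec h'.2 k h1
    · exact h'.1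

/-- all integers `x` with `|x| ≤ B`, `x ≡ c mod m` -/
def loop (m : ℕ) (c : ℤ) (B : ℕ) (f : ℤ → Bool) : Bool :=
  force (-(B : ℤ) + (c + B) % m) fun l => allN (2 * B / m + 1) fun k => force (l + m * k) f

theorem loop_spec {m : ℕ} {c : ℤ} {B : ℕ} {f : ℤ → Bool} (hm : 0 < m) (h : loop m c B f = true) {x : ℤ}
    (hx : (m : ℤ) ∣ x - c) (h1 : -(B : ℤ) ≤ x) (h2 : x ≤ B) : f x = true := by
  unfold loop at h
  rw [force_eq] at h
  have hm' : (0 : ℤ) < m := by exact_mod_cast hm
  obtain ⟨y, hy⟩ := Int.eq_ofNat_of_zero_le (show 0 ≤ x + B by omega)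
  have h3 : y / m < 2 * B / m + 1 := by
    have : y ≤ 2 * B := by omega
    exact Nat.lt_succ_of_le (Nat.div_le_div_right this)
  have h4 := allN_spec h (y / m) h3
  rw [force_eq] at h4
  have h5 : (c + B) % (m : ℤ) = (x + B) % m := by
    rw [Int.emod_eq_emod_iff_emod_sub_eq_zero]
    exact Int.emod_eq_zero_of_dvd (by
      obtain ⟨w, hw⟩ := hx
      exact ⟨-w, by linear_combination -hw⟩)
  have h6 : -(B : ℤ) + (c + B) % (m : ℤ) + m * ((y / m : ℕ) : ℤ) = x := by
    rw [h5, Int.natCast_div]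
    have := Int.emod_add_mul_ediv (x + B) m
    rw [← hy]
    linarith
  rwa [h6] at h4

/-! ### the enumeration -/

/-- the final test -/
def fin (d a2 a3 a5 b5 a6 a10 p q r s : ℤ) : Bool :=
  force (Qu d a2 a3 a5 b5 a6 a10 p q r s) fun U => force (Ql d a2 a3 a5 b5 a6 a10 p q r s) fun L =>
    if d % 125 = 0 then decide (0 ≤ U) && decide (L ≤ 0) else decide (1000000000000 ≤ U) && decide (L ≤ 1000000000000)

/-- the enumeration, given `d` -/
def chkD (d : ℤ) : Bool :=
  force (d * d + 128304000 * t7 d + 163296000 * t11 d) fun s0 =>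
  decide (898128000 < s0) || loop 16 d 200 fun a2 =>
  decide (22275 * a2 % d ≠ 0) || force (s0 + 22275 * (a2 * a2) + 128304000 * t7 a2) fun s1 =>
  decide (898128000 < s1) || loop 25 d 27 fun a5 =>
  force (s1 + 1197504 * (a5 * a5)) fun s2 =>
  decide (898128000 < s2) || loop 5 d 5 fun b5 =>
  decide ((d + 4 * a5 + 120 * b5) % 125 ≠ 0) || force (s2 + 35925120 * (b5 * b5)) fun s3 =>
  decide (898128000 < s3) || loop 5 a2 5 fun a10 =>
  decide ((a10 - a5) % 2 ≠ 0) || force (s3 + 29937600 * (a10 * a10)) fun s4 =>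
  decide (898128000 < s4) || loop 3 d 170 fun a3 =>
  decide (30800 * a3 % d ≠ 0) || force (s4 + 30800 * (a3 * a3)) fun s5 =>
  decide (898128000 < s5) || loop 4 a3 18 fun a6 =>
  decide ((a6 - a2) % 3 ≠ 0) || force (s5 + 2494800 * (a6 * a6)) fun s6 =>
  decide (898128000 < s6) || L15.all fun w =>
  decide ((a5 - w.2.1 + w.2.2) % 3 ≠ 0) || decide ((a3 - w.2.1 - 3 * w.2.2) % 5 ≠ 0) ||
  force (s6 + 59875200 * w.1) fun s7 =>
  decide (898128000 < s7) || L15.all fun w' =>
  decide ((w'.2.1 - w.2.1) % 2 ≠ 0) || decide ((w'.2.2 - w.2.2) % 2 ≠ 0) ||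
  decide ((a10 - w'.2.1 + w'.2.2) % 3 ≠ 0) || decide ((a6 - w'.2.1 - 3 * w'.2.2) % 5 ≠ 0) ||
  decide (898128000 < s7 + 59875200 * w'.1) || fin d a2 a3 a5 b5 a6 a10 w.2.1 w.2.2 w'.2.1 w'.2.2

/-- the enumeration -/
def chkAll (lo n : ℕ) : Bool :=
  allN n fun k => Nat.beq (lo + k) 0 || !Nat.beq (2694384000 % (3 * (lo + k))) 0 || chkD ((3 * (lo + k) : ℕ) : ℤ)

theorem c0 : chkAll 0 400 = true := by decide +kernel
theorem c1 : chkAll 400 800 = true := by decide +kernel
theorem c2 : chkAll 1200 1800 = true := by decide +kernel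
theorem c3 : chkAll 3000 7000 = true := by decide +kernel

theorem chk_of {n : ℕ} (h0 : 0 < n) (hn : n < 9990) (hd : 3 * n ∣ 2694384000) : chkD ((3 * n : ℕ) : ℤ) = true := by
  have key : ∀ lo m : ℕ, chkAll lo m = true → lo ≤ n → n < lo + m → chkD ((3 * n : ℕ) : ℤ) = true := by
    intro lo m h h1 h2
    have h3 := allN_spec h (n - lo) (by omega)
    rw [show lo + (n - lo) = n by omega, Bool.or_eq_true, Bool.or_eq_true, Nat.beq_eq, Bool.not_eq_true',
      Nat.mod_eq_zero_of_dvd hd] at h3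
    rcases h3 with (h3 | h3) | h3
    · omega
    · exact absurd h3 (by decide)
    · exact h3
  rcases Nat.lt_or_ge n 400 with h1 | h1
  · exact key 0 400 c0 (by omega) (by omega)
  rcases Nat.lt_or_ge n 1200 with h2 | h2
  · exact key 400 800 c1 (by omega) (by omega)
  rcases Nat.lt_or_ge n 3000 with h3 | h3
  · exact key 1200 1800 c2 (by omega) (by omega)
  · exact key 3000 7000 c3 (by omega) (by omega)

theorem bnd {x : ℤ} {B : ℕ} (h : x * x ≤ B * B + 2 * B) : -(B : ℤ) ≤ x ∧ x ≤ B := by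
  constructor <;> nlinarith

theorem orL {a b : Bool} (h : (a || b) = true) (ha : ¬ a = true) : b = true := by
  cases a
  · exact h
  · exact absurd rfl ha

theorem orD {P : Prop} [Decidable P] {b : Bool} (h : (decide P || b) = true) (hP : ¬ P) : b = true :=
  orL h (by rwa [decide_eq_true_iff])

theorem rows {d a2 a3 a5 b5 a6 a10 p q r s e f g k i j : ℤ} (h : RowOK d a2 a3 a5 b5 a6 a10 p q r s e f g k i j) :
    (d % 125 = 0 → 0 ≤ Qu d a2 a3 a5 b5 a6 a10 p q r s ∧ Ql d a2 a3 a5 b5 a6 a10 p q r s ≤ 0) ∧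
    (d % 125 ≠ 0 → 1000000000000 ≤ Qu d a2 a3 a5 b5 a6 a10 p q r s ∧
      Ql d a2 a3 a5 b5 a6 a10 p q r s ≤ 1000000000000) := by
  have hn := h.norm
  have e1 := t7_le h.c7
  have e2 := t7_le h.c14
  have e3 := t11_le h.c11
  have z1 : 0 ≤ a2 * a2 := mul_self_nonneg _
  have z2 : 0 ≤ a3 * a3 := mul_self_nonneg _
  have z3 : 0 ≤ a5 * a5 := mul_self_nonneg _
  have z4 : 0 ≤ b5 * b5 := mul_self_nonneg _
  have z5 : 0 ≤ a6 * a6 := mul_self_nonneg _
  have z6 : 0 ≤ a10 * a10 := mul_self_nonneg _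
  have z7 : 0 ≤ p * p + p * q + 4 * (q * q) := by nlinarith [sq_nonneg (2 * p + q), sq_nonneg q]
  have z8 : 0 ≤ r * r + r * s + 4 * (s * s) := by nlinarith [sq_nonneg (2 * r + s), sq_nonneg s]
  have z9 : 0 ≤ t7 d := by unfold t7; split_ifs <;> norm_num
  have z10 : 0 ≤ t7 a2 := by unfold t7; split_ifs <;> norm_num
  have z11 : 0 ≤ t11 d := by unfold t11; split_ifs <;> norm_num
  have z12 : 0 < d * d := mul_pos h.pos h.pos
  have m1 := @mem_L15 p q
  have m2 := @mem_L15 r s
  generalize hN : p * p + p * q + 4 * (q * q) = N at *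
  generalize hN' : r * r + r * s + 4 * (s * s) = N' at *
  generalize e * e - e * f + 2 * (f * f) = x1 at *
  generalize g * g - g * k + 2 * (k * k) = x2 at *
  generalize i * i - i * j + 3 * (j * j) = x3 at *
  obtain ⟨n, hdn⟩ : ∃ n : ℕ, d = ((3 * n : ℕ) : ℤ) := by
    obtain ⟨y, hy⟩ := h.three
    have hp := h.pos
    obtain ⟨n, rfl⟩ := Int.eq_ofNat_of_zero_le (show 0 ≤ y by omega)
    exact ⟨n, by rw [hy]; push_cast; rfl⟩
  have hd2 : d * d ≤ 898128000 := by linarith
  have hd3 : d ≤ 29968 := by nlinarith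
  have hp := h.pos
  have H := chk_of (n := n) (by omega) (by omega) (by have := h.dvd; rw [hdn] at this; exact_mod_cast this)
  rw [← hdn] at H
  unfold chkD at H
  rw [force_eq] at H
  replace H := orD H (by linarith)
  replace H := loop_spec (by norm_num) H (x := a2) h.c16 (bnd (B := 200) (by push_cast; linarith)).1
    (bnd (B := 200) (by push_cast; linarith)).2
  replace H := orD H (by rw [not_not]; exact Int.emod_eq_zero_of_dvd h.div2)
  rw [force_eq] at H
  replace H := orD H (by linarith)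
  have c25 : (25 : ℤ) ∣ a5 - d := by
    have h1 := h.c5
    have h2 := h.c125
    omega
  replace H := loop_spec (by norm_num) H (x := a5) c25 (bnd (B := 27) (by push_cast; linarith)).1
    (bnd (B := 27) (by push_cast; linarith)).2
  rw [force_eq] at H
  replace H := orD H (by linarith)
  have c5 : ((5 : ℕ) : ℤ) ∣ b5 - d := by
    have h1 := h.c5
    push_cast
    omega
  replace H := loop_spec (by norm_num) H (x := b5) c5 (bnd (B := 5) (by push_cast; linarith)).1
    (bnd (B := 5) (by push_cast; linarith)).2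
  replace H := orD H (by rw [not_not]; exact Int.emod_eq_zero_of_dvd h.c125)
  rw [force_eq] at H
  replace H := orD H (by linarith)
  replace H := loop_spec (by norm_num) H (x := a10) h.c10 (bnd (B := 5) (by push_cast; linarith)).1
    (bnd (B := 5) (by push_cast; linarith)).2
  replace H := orD H (by rw [not_not]; exact Int.emod_eq_zero_of_dvd h.c10')
  rw [force_eq] at H
  replace H := orD H (by linarith)
  replace H := loop_spec (by norm_num) H (x := a3) h.c3 (bnd (B := 170) (by push_cast; linarith)).1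
    (bnd (B := 170) (by push_cast; linarith)).2
  replace H := orD H (by rw [not_not]; exact Int.emod_eq_zero_of_dvd h.div3)
  rw [force_eq] at H
  replace H := orD H (by linarith)
  replace H := loop_spec (by norm_num) H (x := a6) h.c6' (bnd (B := 18) (by push_cast; linarith)).1
    (bnd (B := 18) (by push_cast; linarith)).2
  replace H := orD H (by rw [not_not]; exact Int.emod_eq_zero_of_dvd h.c6)
  rw [force_eq] at H
  replace H := orD H (by linarith)
  replace H := List.all_eq_true.1 H _ (m1 (by linarith))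
  replace H := orL H (by
    rw [Bool.or_eq_true, decide_eq_true_iff, decide_eq_true_iff]
    rintro (h1 | h1)
    · exact h1 (Int.emod_eq_zero_of_dvd h.c15)
    · exact h1 (Int.emod_eq_zero_of_dvd h.c15'))
  rw [force_eq] at H
  replace H := orD H (by linarith)
  replace H := List.all_eq_true.1 H _ (m2 (by linarith))
  replace H := orL H (by
    simp only [Bool.or_eq_true, decide_eq_true_iff]
    rintro ((((h1 | h1) | h1) | h1) | h1)
    · exact h1 (Int.emod_eq_zero_of_dvd h.cr)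
    · exact h1 (Int.emod_eq_zero_of_dvd h.cs)
    · exact h1 (Int.emod_eq_zero_of_dvd h.c30)
    · exact h1 (Int.emod_eq_zero_of_dvd h.c30')
    · linarith)
  unfold fin at H
  rw [force_eq, force_eq] at H
  constructor
  · intro hd
    rw [if_pos hd, Bool.and_eq_true, decide_eq_true_iff, decide_eq_true_iff] at H
    exact H
  · intro hd
    rw [if_neg hd, Bool.and_eq_true, decide_eq_true_iff, decide_eq_true_iff] at H
    exact H

/-! ### the columns -/

/-- the norms of the columns -/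
def co : Fin 7 → ℤ := ![898128000, 40320, 29160, 750, 25, 360, 30]

theorem co_0 : co 0 = 898128000 := rfl
theorem co_1 : co 1 = 40320 := rfl
theorem co_2 : co 2 = 29160 := rfl
theorem co_3 : co 3 = 750 := rfl
theorem co_4 : co 4 = 25 := rfl
theorem co_5 : co 5 = 360 := rfl
theorem co_6 : co 6 = 30 := rfl

/-- the column orthogonality -/
structure Gram {ι : Type*} (X : Finset ι) (u : Fin 7 → ι → ℤ) (w : Fin 4 → ι → ℤ) : Prop where
  uu : ∀ i j, ∑ x ∈ X, u i x * u j x = if i = j then co i else 0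
  uw : ∀ i j, ∑ x ∈ X, u i x * w j x = 0
  ww : ∀ i j : Fin 4, i < 2 → 2 ≤ j → ∑ x ∈ X, w i x * w j x = 0
  n15 : ∑ x ∈ X, (w 0 x * w 0 x + w 0 x * w 1 x + 4 * (w 1 x * w 1 x)) = 30
  n30 : ∑ x ∈ X, (w 2 x * w 2 x + w 2 x * w 3 x + 4 * (w 3 x * w 3 x)) = 30

variable {ι : Type*} {X : Finset ι} {u : Fin 7 → ι → ℤ} {w : Fin 4 → ι → ℤ}

theorem Gram.e15 (G : Gram X u w) : ∑ x ∈ X, w 0 x * w 0 x + ∑ x ∈ X, w 0 x * w 1 x + 4 * ∑ x ∈ X, w 1 x * w 1 x = 30 := by
  rw [Finset.mul_sum, ← Finset.sum_add_distrib, ← Finset.sum_add_distrib]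
  exact G.n15

theorem Gram.e30 (G : Gram X u w) : ∑ x ∈ X, w 2 x * w 2 x + ∑ x ∈ X, w 2 x * w 3 x + 4 * ∑ x ∈ X, w 3 x * w 3 x = 30 := by
  rw [Finset.mul_sum, ← Finset.sum_add_distrib, ← Finset.sum_add_distrib]
  exact G.n30

theorem Gram.sum_u (G : Gram X u w) : ∑ x ∈ X, Qu (u 0 x) (u 1 x) (u 2 x) (u 3 x) (u 4 x) (u 5 x) (u 6 x) (w 0 x) (w 1 x)
    (w 2 x) (w 3 x) = 19528496879000 := by
  have h1 := G.e15
  have h2 := G.e30
  simp only [Qu, Finset.sum_add_distrib, ← Finset.mul_sum]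
  simp only [G.uu, G.uw, G.ww 0 2 (by decide) (by decide), G.ww 0 3 (by decide) (by decide),
    G.ww 1 2 (by decide) (by decide), G.ww 1 3 (by decide) (by decide)]
  simp only [Fin.reduceEq, if_true, if_false, co_0, co_1, co_2, co_3, co_4, co_5, co_6, mul_zero, add_zero]
  norm_num
  linear_combination (1420657354163) * h1 + (-1075921518259) * h2

theorem Gram.sum_l (G : Gram X u w) : ∑ x ∈ X, Ql (u 0 x) (u 1 x) (u 2 x) (u 3 x) (u 4 x) (u 5 x) (u 6 x) (w 0 x) (w 1 x)
    (w 2 x) (w 3 x) = 18785069823715 := by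
  have h1 := G.e15
  have h2 := G.e30
  simp only [Ql, Finset.sum_add_distrib, ← Finset.mul_sum]
  simp only [G.uu, G.uw, G.ww 0 2 (by decide) (by decide), G.ww 0 3 (by decide) (by decide),
    G.ww 1 2 (by decide) (by decide), G.ww 1 3 (by decide) (by decide)]
  simp only [Fin.reduceEq, if_true, if_false, co_0, co_1, co_2, co_3, co_4, co_5, co_6, mul_zero, add_zero]
  norm_num
  linear_combination (-1320245534861) * h1 + (1696739080491) * h2

/-- **The count.** -/
theorem count (G : Gram X u w)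
    (hrow : ∀ x ∈ X, ∃ e f g k i j : ℤ, RowOK (u 0 x) (u 1 x) (u 2 x) (u 3 x) (u 4 x) (u 5 x) (u 6 x) (w 0 x) (w 1 x)
      (w 2 x) (w 3 x) e f g k i j) : (X.filter fun x => ¬ (125 : ℤ) ∣ u 0 x).card = 19 := by
  classical
  have h1 : ∀ x ∈ X, (if ¬ (125 : ℤ) ∣ u 0 x then (1000000000000 : ℤ) else 0) ≤
      Qu (u 0 x) (u 1 x) (u 2 x) (u 3 x) (u 4 x) (u 5 x) (u 6 x) (w 0 x) (w 1 x) (w 2 x) (w 3 x) := by
    intro x hx
    obtain ⟨e, f, g, k, i, j, h⟩ := hrow x hx
    have := rows h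
    by_cases h125 : (125 : ℤ) ∣ u 0 x
    · rw [if_neg (not_not.2 h125)]
      exact (this.1 (Int.emod_eq_zero_of_dvd h125)).1
    · rw [if_pos h125]
      exact (this.2 fun h0 => h125 (Int.dvd_of_emod_eq_zero h0)).1
  have h2 : ∀ x ∈ X, Ql (u 0 x) (u 1 x) (u 2 x) (u 3 x) (u 4 x) (u 5 x) (u 6 x) (w 0 x) (w 1 x) (w 2 x) (w 3 x) ≤
      (if ¬ (125 : ℤ) ∣ u 0 x then (1000000000000 : ℤ) else 0) := by
    intro x hx
    obtain ⟨e, f, g, k, i, j, h⟩ := hrow x hx
    have := rows h
    by_cases h125 : (125 : ℤ) ∣ u 0 x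
    · rw [if_neg (not_not.2 h125)]
      exact (this.1 (Int.emod_eq_zero_of_dvd h125)).2
    · rw [if_pos h125]
      exact (this.2 fun h0 => h125 (Int.dvd_of_emod_eq_zero h0)).2
  have h3 := Finset.sum_le_sum h1
  have h4 := Finset.sum_le_sum h2
  rw [G.sum_u, ← Finset.sum_filter, Finset.sum_const, nsmul_eq_mul] at h3
  rw [G.sum_l, ← Finset.sum_filter, Finset.sum_const, nsmul_eq_mul] at h4
  omega

end Cfsg.Agent.H86.TI.Num
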