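import Cfsg.Agent.H86.TI.Vals

/-!
# The count for `3.McL` (helper86, task 5085): the row of one character
-/

set_option autoImplicit false
set_option linter.unusedSectionVars false

open Subgroup Cfsg
open scoped ComplexConjugate

namespace Cfsg.Agent.H86.TI

open Cfsg.Agent.H407.TI Cfsg.Agent.Characters.Core

universe u v

variable {E : Type u} [Group E] {Z : Subgroup E} {G : Type v} [Group G] {π : E →* G} {L : Loc G}

/-- lifting a `p`-subgroup, `p ≠ 3` -/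
theorem exists_lift_sub [Finite E] (h : Ext Z π) (S : Subgroup G) {p n : ℕ} (hp : p.Prime) (h3 : p ≠ 3)
    (hS : Nat.card S = p ^ n) : ∃ S' : Subgroup E, Nat.card S' = p ^ n ∧ (∀ g ∈ S', π g ∈ S) ∧
      ∀ g ∈ S', π g = 1 → g = 1 := by
  have := Fact.mk hp
  have hd : p ^ n ∣ Nat.card (S.comap π) := by rw [h.card_comap, hS]; exact dvd_mul_left _ _
  obtain ⟨K, hK⟩ := Sylow.exists_subgroup_card_pow_prime p hd
  refine ⟨K.map (S.comap π).subtype, ?_, ?_, ?_⟩
  · rw [Nat.card_congr (K.equivMapOfInjective _ (S.comap π).subtype_injective).symm.toEquiv, hK]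
  · rintro _ ⟨g, -, rfl⟩
    exact g.2
  · rintro g hg h1
    have h2 : g ^ p ^ n = 1 := by
      have h3 := pow_card_eq_one' (x := (⟨g, hg⟩ : ↥(K.map (S.comap π).subtype)))
      rw [Nat.card_congr (K.equivMapOfInjective _ (S.comap π).subtype_injective).symm.toEquiv, hK] at h3
      exact congrArg Subtype.val h3
    refine h.eq_one_of_pow (h.mem_iff.2 h1) (m := p ^ n) ?_ h2
    intro h4
    exact h3 ((Nat.prime_dvd_prime_iff_eq Nat.prime_three hp).1 (Nat.prime_three.dvd_of_dvd_pow h4)).symm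

namespace LocE

variable (e : LocE π L)

section
variable [Finite E]

/-- `16 ∣ d + 15 χ(T)` -/
theorem sixteen (h : Ext Z π) {χ : E → ℂ} (hχ : IsCharacter E χ) {d a : ℤ} (hd : χ 1 = d) (ha : χ e.T = a) :
    (16 : ℤ) ∣ a - d := by
  classical
  obtain ⟨S, hS, h1, h2⟩ := exists_lift_sub h L.V (p := 2) (n := 4) Nat.prime_two (by norm_num)
    (by rw [L.cardV]; norm_num)
  have := Fintype.ofFinite S
  obtain ⟨m, hm⟩ := sum_sub hχ S
  have h3 : ∀ g : S, χ g = (a : ℂ) + if g = 1 then ((d - a : ℤ) : ℂ) else 0 := by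
    intro g
    by_cases hg : g = 1
    · subst hg
      rw [if_pos rfl, Subgroup.coe_one, hd]; push_cast; ring
    · rw [if_neg hg, add_zero, ← ha]
      have h4 : π g ≠ 1 := fun h5 => hg (Subtype.ext (h2 g g.2 h5))
      have h6 : (g : E) ^ 16 = 1 := by
        have h5 := pow_card_eq_one' (x := g)
        rw [hS] at h5
        exact congrArg Subtype.val h5
      refine apply_conj hχ (h.isConj_of (m := 16) (n := 2) (by norm_num) (by norm_num) h6 (by
        rw [pow_two, e.T2]) ?_)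
      rw [e.πT]
      exact (L.tV _ (h1 g g.2) h4).symm
  rw [Finset.sum_congr rfl fun g _ => h3 g, Finset.sum_add_distrib, Finset.sum_const, Finset.card_univ,
    ← Nat.card_eq_fintype_card, hS, Finset.sum_ite_eq' Finset.univ (1 : S), if_pos (Finset.mem_univ _), nsmul_eq_mul] at hm
  have h7 : (16 * a + (d - a) : ℤ) = 16 * m := by
    have : ((16 * a + (d - a) : ℤ) : ℂ) = ((16 * m : ℤ) : ℂ) := by
      push_cast at hm ⊢
      linear_combination hm
    exact_mod_cast this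
  exact ⟨a - m, by linarith⟩

theorem W_pow (k : ℕ) (h0 : ¬ 5 ∣ k) : IsConj e.W (e.W ^ k) := by
  have h1 : IsConj e.W (e.W ^ 2) := isConj_iff.2 ⟨e.H, e.HW⟩
  have h2 : IsConj (e.W ^ 2) (e.W ^ 4) := isConj_iff.2 ⟨e.H, by rw [← conj_pow, e.HW, ← pow_mul]⟩
  have h3 : IsConj (e.W ^ 4) (e.W ^ 3) := isConj_iff.2 ⟨e.H, by
    rw [← conj_pow, e.HW, ← pow_mul, pow_red e.W5]⟩
  rw [pow_red e.W5 k]
  have h5 : k % 5 = 1 ∨ k % 5 = 2 ∨ k % 5 = 3 ∨ k % 5 = 4 := by omega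
  rcases h5 with h5 | h5 | h5 | h5 <;> rw [h5]
  · rw [pow_one]
  · exact h1
  · exact (h1.trans h2).trans h3
  · exact h1.trans h2

/-- `125 ∣ d + 4 χ(W) + 120 χ(U)` -/
theorem one25 (h : Ext Z π) {χ : E → ℂ} (hχ : IsCharacter E χ) {d a b : ℤ} (hd : χ 1 = d) (ha : χ e.W = a)
    (hb : χ e.U = b) : (125 : ℤ) ∣ d + 4 * a + 120 * b := by
  classical
  obtain ⟨S, hS, h1, h2⟩ := exists_lift_sub h L.P (p := 5) (n := 3) (by norm_num) (by norm_num)
    (by rw [L.cardP]; norm_num)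
  have := Fintype.ofFinite S
  obtain ⟨m, hm⟩ := sum_sub hχ S
  have h125 : ∀ g : S, (g : E) ^ 125 = 1 := by
    intro g
    have h5 := pow_card_eq_one' (x := g)
    rw [hS] at h5
    exact congrArg Subtype.val h5
  have h3 : ∀ g : S, χ g = ((b : ℂ) + if π g ∈ zpowers L.z then ((a - b : ℤ) : ℂ) else 0) +
      if g = 1 then ((d - a : ℤ) : ℂ) else 0 := by
    intro g
    by_cases hg : g = 1
    · subst hg
      rw [if_pos rfl, if_pos (by rw [Subgroup.coe_one, map_one]; exact one_mem _), Subgroup.coe_one, hd]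
      push_cast; ring
    · rw [if_neg hg, add_zero]
      have h4 : π g ≠ 1 := fun h5 => hg (Subtype.ext (h2 g g.2 h5))
      by_cases hz : π g ∈ zpowers L.z
      · rw [if_pos hz]
        have hfin : Finite G := Nat.finite_of_card_ne_zero (by rw [L.cardG]; norm_num)
        obtain ⟨k, hk⟩ := mem_powers_iff_mem_zpowers.2 hz
        have hk' : L.z ^ k = π g := hk
        have h5 : ¬ 5 ∣ k := by
          rintro ⟨l, rfl⟩
          apply h4
          rw [← hk', pow_mul, L.z5, one_pow]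
        have h6 : (g : E) = e.W ^ k := by
          refine h.inj_of (m := 125) (n := 5) (by norm_num) (by norm_num) (h125 g)
            (by rw [← pow_mul, mul_comm, pow_mul, e.W5, one_pow]) ?_
          rw [map_pow, e.πW, hk']
        rw [h6, ← apply_conj hχ (e.W_pow k h5), ha]
        push_cast; ring
      · rw [if_neg hz, add_zero, ← hb]
        refine apply_conj hχ (h.isConj_of (m := 125) (n := 5) (by norm_num) (by norm_num) (h125 g) e.U5 ?_)
        rw [e.πU]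
        exact (L.uP _ (h1 g g.2) hz).symm
  have hfin : Finite G := Nat.finite_of_card_ne_zero (by rw [L.cardG]; norm_num)
  have hcount : ∑ g : S, (if π g ∈ zpowers L.z then ((a - b : ℤ) : ℂ) else 0) = 5 * ((a - b : ℤ) : ℂ) := by
    rw [← Finset.sum_filter, Finset.sum_const, nsmul_eq_mul]
    congr 1
    have hfin' := Fintype.ofFinite L.P
    let f : S → L.P := fun g => ⟨π g, h1 g g.2⟩
    have hf : Function.Injective f := by
      intro g k hgk
      have h5 : π (g : E) = π (k : E) := congrArg Subtype.val hgk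
      exact Subtype.ext (h.inj_of (m := 125) (n := 125) (by norm_num) (by norm_num) (h125 g) (h125 k) h5)
    have hfb : Function.Bijective f := by
      rw [Fintype.bijective_iff_injective_and_card]
      refine ⟨hf, ?_⟩
      rw [← Nat.card_eq_fintype_card, ← Nat.card_eq_fintype_card, hS, L.cardP]; norm_num
    have hle : zpowers L.z ≤ L.P := by rw [zpowers_le]; exact L.zP
    have h6 : (Finset.univ.filter fun g : S => π g ∈ zpowers L.z).card = Nat.card (zpowers L.z) := by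
      rw [← Fintype.card_subtype, ← Nat.card_eq_fintype_card]
      refine Nat.card_congr (Equiv.ofBijective (fun g => ⟨π (g.1 : E), g.2⟩) ⟨?_, ?_⟩)
      · intro g k hgk
        have h5 : π (g.1 : E) = π (k.1 : E) := congrArg Subtype.val hgk
        exact Subtype.ext (hf (Subtype.ext h5))
      · rintro ⟨w, hw⟩
        obtain ⟨g, hg⟩ := hfb.2 ⟨w, hle hw⟩
        have h5 : π (g : E) = w := congrArg Subtype.val hg
        exact ⟨⟨g, by rw [h5]; exact hw⟩, Subtype.ext h5⟩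
    rw [h6, Nat.card_zpowers, L.oz]
    norm_num
  rw [Finset.sum_congr rfl fun g _ => h3 g, Finset.sum_add_distrib, Finset.sum_add_distrib, hcount, Finset.sum_const,
    Finset.card_univ, ← Nat.card_eq_fintype_card, hS, Finset.sum_ite_eq' Finset.univ (1 : S),
    if_pos (Finset.mem_univ _), nsmul_eq_mul] at hm
  have h7 : (125 * b + 5 * (a - b) + (d - a) : ℤ) = 125 * m := by
    have : ((125 * b + 5 * (a - b) + (d - a) : ℤ) : ℂ) = ((125 * m : ℤ) : ℂ) := by
      push_cast at hm ⊢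
      linear_combination hm
    exact_mod_cast this
  exact ⟨m, by linarith⟩

/-- the value at `U` -/
theorem five {χ : E → ℂ} (hχ : IsCharacter E χ) {d : ℕ} (hd : χ 1 = d) :
    ∃ b : ℤ, χ e.U = b ∧ (5 : ℤ) ∣ d + 4 * b := by
  have h1 : ∀ k, ¬ 5 ∣ k → χ (e.U ^ k) = χ e.U := by
    obtain ⟨c, hc⟩ := isConj_iff.1 e.UU
    have h2 : IsConj e.U (e.U ^ 2) := e.UU
    have h4 : IsConj (e.U ^ 2) (e.U ^ 4) := isConj_iff.2 ⟨c, by rw [← conj_pow, hc, ← pow_mul]⟩
    have h3 : IsConj (e.U ^ 4) (e.U ^ 3) := isConj_iff.2 ⟨c, by rw [← conj_pow, hc, ← pow_mul, pow_red e.U5]⟩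
    intro k hk
    rw [pow_red e.U5 k]
    have h5 : k % 5 = 1 ∨ k % 5 = 2 ∨ k % 5 = 3 ∨ k % 5 = 4 := by omega
    rcases h5 with h5 | h5 | h5 | h5 <;> rw [h5]
    · rw [pow_one]
    · exact (apply_conj hχ h2).symm
    · exact (apply_conj hχ ((h2.trans h4).trans h3)).symm
    · exact (apply_conj hχ (h2.trans h4)).symm
  obtain ⟨n, hn⟩ := exists_mult hχ (by norm_num : 5 ≠ 0) e.U5 (w := 1) (one_pow 5)
  simp only [Finset.sum_range_succ, Finset.sum_range_zero, pow_zero, zero_add, mul_one, one_pow, hd] at hn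
  rw [h1 1 (by norm_num), h1 2 (by norm_num), h1 3 (by norm_num), h1 4 (by norm_num)] at hn
  have h6 : (((d : ℤ) : ℂ)) + (4 : ℕ) * χ e.U = ((5 * n : ℕ) : ℂ) := by
    push_cast at hn ⊢
    linear_combination hn
  obtain ⟨b, hb⟩ := int_of_eq hχ (by norm_num) h6
  refine ⟨b, hb, n, ?_⟩
  rw [hb] at h6
  have h7 : (((d : ℤ) + 4 * b : ℤ) : ℂ) = ((5 * n : ℤ) : ℂ) := by
    push_cast at h6 ⊢
    exact h6
  exact_mod_cast h7

theorem HTX : IsConj (e.T * e.X) (e.T * e.X ^ 2) := by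
  refine isConj_iff.2 ⟨e.H, ?_⟩
  have h1 : e.X⁻¹ = e.X ^ 2 := inv_eq_of_mul_eq_one_left (by rw [← pow_succ]; exact e.X3)
  calc e.H * (e.T * e.X) * e.H⁻¹ = (e.H * e.T * e.H⁻¹) * (e.H * e.X * e.H⁻¹) := by group
    _ = e.T * e.X ^ 2 := by rw [e.HT, e.HX, h1]

theorem HTW (k : ℕ) : IsConj (e.T * e.W ^ k) (e.T * e.W ^ (2 * k)) := by
  refine isConj_iff.2 ⟨e.H, ?_⟩
  calc e.H * (e.T * e.W ^ k) * e.H⁻¹ = (e.H * e.T * e.H⁻¹) * (e.H * e.W * e.H⁻¹) ^ k := by
        rw [conj_pow]; group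
    _ = e.T * e.W ^ (2 * k) := by rw [e.HT, e.HW, ← pow_mul]

theorem T2' : e.T ^ 2 = 1 := by rw [pow_two, e.T2]

theorem cXW : Commute e.X e.W := e.XW
theorem cTXW : Commute e.T (e.X * e.W) := (show Commute e.T e.X from e.TX).mul_right (show Commute e.T e.W from e.TW)

theorem powTXW (n : ℕ) : (e.T * (e.X * e.W)) ^ n = e.T ^ (n % 2) * (e.X ^ (n % 3) * e.W ^ (n % 5)) := by
  rw [e.cTXW.mul_pow, e.cXW.mul_pow, pow_red e.T2' n, pow_red e.X3 n, pow_red e.W5 n]

theorem HTXW : IsConj (e.T * (e.X * e.W)) ((e.T * (e.X * e.W)) ^ 17) := by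
  refine isConj_iff.2 ⟨e.H, ?_⟩
  have h1 : e.X⁻¹ = e.X ^ 2 := inv_eq_of_mul_eq_one_left (by rw [← pow_succ]; exact e.X3)
  rw [e.powTXW]
  calc e.H * (e.T * (e.X * e.W)) * e.H⁻¹ = (e.H * e.T * e.H⁻¹) * ((e.H * e.X * e.H⁻¹) * (e.H * e.W * e.H⁻¹)) := by group
    _ = e.T ^ (17 % 2) * (e.X ^ (17 % 3) * e.W ^ (17 % 5)) := by rw [e.HT, e.HX, e.HW, h1]; simp

/-- the values on the cyclic group of order 30 -/
theorem thirty_vals {χ : E → ℂ} (hχ : IsCharacter E χ) {d : ℕ} (hd : χ 1 = d) :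
    ∃ a2 a3 a5 a6 a10 p q r s : ℤ, χ e.T = a2 ∧ χ e.X = a3 ∧ χ e.W = a5 ∧ χ (e.T * e.X) = a6 ∧
      χ (e.T * e.W) = a10 ∧ χ (e.X * e.W) = p + q * eta ∧ χ (e.T * (e.X * e.W)) = r + s * eta ∧
      (2 : ℤ) ∣ a10 - a5 ∧ (5 : ℤ) ∣ a10 - a2 ∧ (3 : ℤ) ∣ a3 - d ∧ (3 : ℤ) ∣ a6 - a2 ∧
      (3 : ℤ) ∣ a5 - p + q ∧ (5 : ℤ) ∣ a3 - p - 3 * q ∧ (3 : ℤ) ∣ a10 - r + s ∧ (5 : ℤ) ∣ a6 - r - 3 * s ∧
      (2 : ℤ) ∣ r - p ∧ (2 : ℤ) ∣ s - q := by
  have h30 : (e.T * (e.X * e.W)) ^ 30 = 1 := by rw [e.powTXW]; simp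
  obtain ⟨a2, a3, a5, a6, a10, p, q, r, s, h1, h2, h3, h4, h5, h6, h7, h8⟩ :=
    Cfsg.Agent.H680.TI.thirty eta_sq hχ h30 e.HTXW hd
  refine ⟨a2, a3, a5, a6, a10, p, q, r, s, ?_, ?_, ?_, ?_, ?_, ?_, h7, h8⟩
  · rw [← h1, e.powTXW]; simp
  · rw [← h2, e.powTXW]; simp
  · rw [← h3, e.powTXW]; simp
  · rw [← h4, e.powTXW, apply_conj hχ e.HTX]; simp
  · rw [← h5, e.powTXW]
    have c1 : IsConj (e.T * e.W) (e.T * e.W ^ 2) := by simpa using e.HTW 1
    have c2 : IsConj (e.T * e.W ^ 2) (e.T * e.W ^ 4) := e.HTW 2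
    have c3 : IsConj (e.T * e.W ^ 4) (e.T * e.W ^ 3) := by
      have := e.HTW 4
      rwa [pow_red e.W5 (2 * 4)] at this
    rw [apply_conj hχ ((c1.trans c2).trans c3)]
    simp
  · rw [← h6, e.powTXW]; simp

end

end LocE

end Cfsg.Agent.H86.TI
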