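import Cfsg.Agent.H86.TI.Row

/-!
# The count for `3.McL` (helper86, task 5085): the row of one character, assembly
-/

set_option autoImplicit false
set_option linter.unusedSectionVars false

open Subgroup Cfsg
open scoped ComplexConjugate

namespace Cfsg.Agent.H86.TI

open Cfsg.Agent.H407.TI Cfsg.Agent.Characters.Core

universe u v

variable {E : Type u} [Group E] {Z : Subgroup E} {G : Type v} [Group G] {π : E →* G} {L : Loc G}

namespace LocE

variable (e : LocE π L)

/-- the seven integral columns -/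
def fam7 : Fin 7 → E := ![1, e.T, e.X, e.W, e.U, e.T * e.X, e.T * e.W]

/-- **the row of a character over `lam`** -/
theorem row [Finite E] (h : Ext Z π) (hperf : commutator E = ⊤) {lam : Z →* ℂˣ} (hl : lam ≠ 1) {χ : E → ℂ}
    (hχ : IsIrrCharacter E χ) (ho : Over Z lam χ)
    (hb : ∑ i, Complex.normSq (χ (e.fam i)) / nrm i ≤ 1) :
    ∃ (u : Fin 7 → ℤ) (w : Fin 4 → ℤ), (∀ i, χ (e.fam7 i) = u i) ∧ χ (e.X * e.W) = w 0 + w 1 * eta ∧
      χ (e.T * (e.X * e.W)) = w 2 + w 3 * eta ∧ u 0 = charDegree χ ∧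
      ∃ a b c d i j : ℤ, Num.RowOK (u 0) (u 1) (u 2) (u 3) (u 4) (u 5) (u 6) (w 0) (w 1) (w 2) (w 3) a b c d i j := by
  have hc := isIrr_isCharacter hχ
  have hfin : Finite G := Nat.finite_of_card_ne_zero (by rw [L.cardG]; norm_num)
  have hd : χ 1 = (charDegree χ : ℂ) := H669.Basic.charDegree_eq hχ
  have hd' : χ 1 = ((charDegree χ : ℤ) : ℂ) := by rw [hd]; push_cast; rfl
  obtain ⟨a2, a3, a5, a6, a10, p, q, r, s, h1, h2, h3, h4, h5, h6, h7, k1, k2, k3, k4, k5, k6, k7, k8, k9, k10⟩ :=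
    e.thirty_vals hc hd
  obtain ⟨b5, h8, k11⟩ := e.five hc hd
  have k12 := e.sixteen h hc hd' h1
  have k13 := e.one25 h hc hd' h3 h8
  obtain ⟨a, b, h9, k14⟩ := Cfsg.Agent.H243.TI.seven eps_sq hc (t := 1) (y := e.Y) (m := e.M) (one_mul 1) e.Y7
    (by rw [one_mul, mul_one]) e.MY (by rw [one_mul, mul_one]) hd'
  obtain ⟨c, d, h10, k15⟩ := Cfsg.Agent.H243.TI.seven eps_sq hc (t := e.T) (y := e.Y) (m := e.M) e.T2 e.Y7
    e.TY e.MY e.MT h1
  obtain ⟨i, j, h11, k16⟩ := Cfsg.Agent.H243.TI.eleven del_sq hc e.V11 e.VV hd'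
  have k17 := Cfsg.Agent.H243.TI.four hc (x := e.X) (q := e.Q) (r := e.R) (by rw [e.QQ, e.T2]) e.QX e.RX e.RQ h2
    (by rw [e.QQ]; exact h4)
  rw [one_mul] at h9
  have hpos := H669.Basic.charDegree_pos hχ
  refine ⟨![(charDegree χ : ℤ), a2, a3, a5, b5, a6, a10], ![p, q, r, s], ?_, h6, h7, rfl, a, b, c, d, i, j, ?_⟩
  · intro i
    fin_cases i
    · exact hd'
    · exact h1
    · exact h2
    · exact h3
    · exact h8
    · exact h4
    · exact h5
  show Num.RowOK (charDegree χ : ℤ) a2 a3 a5 b5 a6 a10 p q r s a b c d i j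
  refine ⟨by exact_mod_cast hpos, ?_, ?_, ?_, ?_, k12, k11, k13, k2, k1, k3, k4, k17, k5, k6, k7, k8, k9, k10, k14, k15,
    k16, ?_⟩
  · -- `3 ∣ d`
    have h12 : ∃ z : Z, lam z ≠ 1 := by
      by_contra hno
      push Not at hno
      exact hl (MonoidHom.ext fun z => by rw [hno z, MonoidHom.one_apply])
    obtain ⟨z, hz⟩ := h12
    have h13 := pow_degree hperf hχ h.cen ho z
    have h14 : lam z ^ charDegree χ = 1 := by
      apply Units.ext
      push_cast
      exact h13
    have h15 : lam z ^ 3 = 1 := by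
      rw [← map_pow]
      have : z ^ 3 = 1 := Subtype.ext (h.cube z.2)
      rw [this, map_one]
    have h16 : orderOf (lam z) = 3 := by
      have := Fact.mk Nat.prime_three
      exact orderOf_eq_prime h15 hz
    have h17 : 3 ∣ charDegree χ := by rw [← h16]; exact orderOf_dvd_of_pow_eq_one h14
    exact_mod_cast h17
  · have h12 := Cfsg.Agent.Blocks.Knorr.charDegree_dvd hχ
    rw [h.card_E, L.cardG] at h12
    exact_mod_cast h12
  · have h12 := div_class hχ h1 (n := 22275) (by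
      change (centralizer ({e.fam 1} : Set E)).index = 22275
      rw [h.index_cent (e.good h 1), e.map_fam]
      have h13 := (centralizer ({famG L 1} : Set G)).card_mul_index
      rw [cardG, L.cardG] at h13
      have h14 : nrm 1 = 40320 := rfl
      rw [h14] at h13
      omega)
    exact_mod_cast h12
  · have h12 := div_class hχ h2 (n := 30800) (by
      change (centralizer ({e.fam 2} : Set E)).index = 30800
      rw [h.index_cent (e.good h 2), e.map_fam]
      have h13 := (centralizer ({famG L 2} : Set G)).card_mul_index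
      rw [cardG, L.cardG] at h13
      have h14 : nrm 2 = 29160 := rfl
      rw [h14] at h13
      omega)
    exact_mod_cast h12
  · -- the norm
    have hinv : ∀ g : E, Complex.normSq (χ g⁻¹) = Complex.normSq (χ g) := by
      intro g
      rw [isCharacter_apply_inv hc, Complex.normSq_conj]
    have hs : ∑ i, Complex.normSq (χ (e.fam i)) / nrm i =
        Complex.normSq (χ 1) / 898128000 + Complex.normSq (χ e.T) / 40320 + Complex.normSq (χ e.X) / 29160 +
        Complex.normSq (χ e.W) / 750 + Complex.normSq (χ e.U) / 25 + Complex.normSq (χ (e.T * e.X)) / 360 +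
        Complex.normSq (χ (e.T * e.W)) / 30 + 2 * Complex.normSq (χ (e.X * e.W)) / 30 +
        2 * Complex.normSq (χ (e.T * (e.X * e.W))) / 30 + 2 * Complex.normSq (χ e.Y) / 14 +
        2 * Complex.normSq (χ (e.T * e.Y)) / 14 + 2 * Complex.normSq (χ e.V) / 11 := by
      simp only [Fin.sum_univ_succ, Fin.sum_univ_zero]
      change Complex.normSq (χ 1) / ((898128000 : ℕ) : ℝ) + (Complex.normSq (χ e.T) / ((40320 : ℕ) : ℝ) +
        (Complex.normSq (χ e.X) / ((29160 : ℕ) : ℝ) + (Complex.normSq (χ e.W) / ((750 : ℕ) : ℝ) +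
        (Complex.normSq (χ e.U) / ((25 : ℕ) : ℝ) + (Complex.normSq (χ (e.T * e.X)) / ((360 : ℕ) : ℝ) +
        (Complex.normSq (χ (e.T * e.W)) / ((30 : ℕ) : ℝ) + (Complex.normSq (χ (e.X * e.W)) / ((30 : ℕ) : ℝ)
        + (Complex.normSq (χ (e.T * (e.X * e.W))) / ((30 : ℕ) : ℝ) + (Complex.normSq (χ (e.X * e.W)⁻¹) /
        ((30 : ℕ) : ℝ) + (Complex.normSq (χ (e.T * (e.X * e.W))⁻¹) / ((30 : ℕ) : ℝ) + (Complex.normSq (χ
        e.Y) / ((14 : ℕ) : ℝ) + (Complex.normSq (χ e.Y⁻¹) / ((14 : ℕ) : ℝ) + (Complex.normSq (χ (e.T * e.Y))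
        / ((14 : ℕ) : ℝ) + (Complex.normSq (χ (e.T * e.Y)⁻¹) / ((14 : ℕ) : ℝ) + (Complex.normSq (χ e.V) /
        ((11 : ℕ) : ℝ) + (Complex.normSq (χ e.V⁻¹) / ((11 : ℕ) : ℝ) + 0)))))))))))))))) = _
      simp only [hinv]
      push_cast
      ring
    rw [hs, hd', h1, h2, h3, h8, h4, h5, h6, h7, h9, h10, h11] at hb
    simp only [nsq_int, nsq_eta, nsq_eps, nsq_del] at hb
    have h20 : (((charDegree χ : ℤ) * (charDegree χ : ℤ) + 22275 * (a2 * a2) + 30800 * (a3 * a3) + 1197504 * (a5 * a5) +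
        35925120 * (b5 * b5) + 2494800 * (a6 * a6) + 29937600 * (a10 * a10) +
        59875200 * (p * p + p * q + 4 * (q * q)) + 59875200 * (r * r + r * s + 4 * (s * s)) +
        128304000 * (a * a - a * b + 2 * (b * b)) + 128304000 * (c * c - c * d + 2 * (d * d)) +
        163296000 * (i * i - i * j + 3 * (j * j)) : ℤ) : ℝ) ≤ ((898128000 : ℤ) : ℝ) := by
      push_cast at hb ⊢
      linarith
    exact_mod_cast h20

end LocE

end Cfsg.Agent.H86.TI
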