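import Cfsg.Agent.H86.TI.Fam
import Cfsg.Agent.H86.TI.Num
import Cfsg.Agent.H243.TI.SevenEleven
import Cfsg.Agent.H680.TI.Thirty
import Cfsg.Agent.Blocks.Knorr
import Cfsg.Agent.Blocks.CentralScalar
import Cfsg.Agent.Characters.Clifford

/-!
# The count for `3.McL` (helper86, task 5085): the values of one character
-/

set_option autoImplicit false
set_option linter.unusedSectionVars false

open Subgroup Cfsg
open scoped ComplexConjugate

namespace Cfsg.Agent.H86.TI

open Cfsg.Agent.H407.TI Cfsg.Agent.Characters.Core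

universe u v

/-! ### the irrationalities -/

/-- `(1 + √-15) / 2` -/
noncomputable def eta : ℂ := ⟨1 / 2, Real.sqrt 15 / 2⟩
/-- `(-1 + √-7) / 2` -/
noncomputable def eps : ℂ := ⟨-1 / 2, Real.sqrt 7 / 2⟩
/-- `(-1 + √-11) / 2` -/
noncomputable def del : ℂ := ⟨-1 / 2, Real.sqrt 11 / 2⟩

theorem eta_sq : eta * eta = eta - 4 := by
  have h := Real.mul_self_sqrt (show (0 : ℝ) ≤ 15 by norm_num)
  apply Complex.ext
  · simp only [eta, Complex.mul_re, Complex.sub_re, Complex.re_ofNat]
    linear_combination -h / 4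
  · simp only [eta, Complex.mul_im, Complex.sub_im, Complex.im_ofNat]
    ring

theorem eps_sq : eps * eps = -eps - 2 := by
  have h := Real.mul_self_sqrt (show (0 : ℝ) ≤ 7 by norm_num)
  apply Complex.ext
  · simp only [eps, Complex.mul_re, Complex.sub_re, Complex.neg_re, Complex.re_ofNat]
    linear_combination -h / 4
  · simp only [eps, Complex.mul_im, Complex.sub_im, Complex.neg_im, Complex.im_ofNat]
    ring

theorem del_sq : del * del = -del - 3 := by
  have h := Real.mul_self_sqrt (show (0 : ℝ) ≤ 11 by norm_num)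
  apply Complex.ext
  · simp only [del, Complex.mul_re, Complex.sub_re, Complex.neg_re, Complex.re_ofNat]
    linear_combination -h / 4
  · simp only [del, Complex.mul_im, Complex.sub_im, Complex.neg_im, Complex.im_ofNat]
    ring

theorem conj_eta : conj eta = 1 - eta := by
  apply Complex.ext
  · simp only [eta, Complex.conj_re, Complex.sub_re, Complex.one_re]; norm_num
  · simp only [eta, Complex.conj_im, Complex.sub_im, Complex.one_im]; ring

theorem sep_eta {A B : ℤ} (h : (A : ℂ) + B * eta = 0) : A = 0 ∧ B = 0 := by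
  have h1 := congrArg Complex.im h
  simp only [eta, Complex.add_im, Complex.mul_im, Complex.intCast_re, Complex.intCast_im, Complex.zero_im, zero_mul,
    zero_add, add_zero] at h1
  have h15 : 0 < Real.sqrt 15 := Real.sqrt_pos.2 (by norm_num)
  have hB : (B : ℝ) = 0 := by
    rcases mul_eq_zero.1 h1 with h2 | h2
    · exact h2
    · exfalso; linarith
  have hB' : B = 0 := by exact_mod_cast hB
  refine ⟨?_, hB'⟩
  rw [hB', Int.cast_zero, zero_mul, add_zero] at h
  exact_mod_cast h

theorem nsq_eta (p q : ℤ) : Complex.normSq (p + q * eta) = ((p * p + p * q + 4 * (q * q) : ℤ) : ℝ) := by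
  have h := Real.mul_self_sqrt (show (0 : ℝ) ≤ 15 by norm_num)
  rw [Complex.normSq_apply]
  simp only [eta, Complex.add_re, Complex.add_im, Complex.mul_re, Complex.mul_im, Complex.intCast_re,
    Complex.intCast_im]
  push_cast
  linear_combination (q : ℝ) ^ 2 * h / 4

theorem nsq_eps (p q : ℤ) : Complex.normSq (p + q * eps) = ((p * p - p * q + 2 * (q * q) : ℤ) : ℝ) := by
  have h := Real.mul_self_sqrt (show (0 : ℝ) ≤ 7 by norm_num)
  rw [Complex.normSq_apply]
  simp only [eps, Complex.add_re, Complex.add_im, Complex.mul_re, Complex.mul_im, Complex.intCast_re,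
    Complex.intCast_im]
  push_cast
  linear_combination (q : ℝ) ^ 2 * h / 4

theorem nsq_del (p q : ℤ) : Complex.normSq (p + q * del) = ((p * p - p * q + 3 * (q * q) : ℤ) : ℝ) := by
  have h := Real.mul_self_sqrt (show (0 : ℝ) ≤ 11 by norm_num)
  rw [Complex.normSq_apply]
  simp only [del, Complex.add_re, Complex.add_im, Complex.mul_re, Complex.mul_im, Complex.intCast_re,
    Complex.intCast_im]
  push_cast
  linear_combination (q : ℝ) ^ 2 * h / 4

theorem nsq_int (a : ℤ) : Complex.normSq (a : ℂ) = ((a * a : ℤ) : ℝ) := by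
  rw [Complex.normSq_apply]; simp

/-! ### general facts -/

section
variable {E : Type u} [Group E] [Finite E]

theorem apply_conj {χ : E → ℂ} (hχ : IsCharacter E χ) {g k : E} (hc : IsConj g k) : χ g = χ k := by
  obtain ⟨c, rfl⟩ := isConj_iff.1 hc
  exact (isCharacter_isClassFunction hχ g c).symm

theorem sum_sub {χ : E → ℂ} (hχ : IsCharacter E χ) (S : Subgroup E) [Fintype S] :
    ∃ m : ℕ, ∑ g : S, χ g = (Nat.card S : ℂ) * m := by
  obtain ⟨m, hm⟩ := classInner_isNat (Characters.Clifford.isCharacter_restrict S hχ)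
    (isIrr_isCharacter (isIrr_one (G := S)))
  rw [classInner_def] at hm
  have e1 : ∀ q : S, χ q * conj ((1 : ↥S → ℂ) q) = χ q := by
    intro q; simp
  rw [Finset.sum_congr rfl fun q _ => e1 q] at hm
  refine ⟨m, ?_⟩
  have h0 : (Nat.card S : ℂ) ≠ 0 := by exact_mod_cast Nat.card_pos.ne'
  field_simp at hm
  exact hm

theorem int_of_eq {χ : E → ℂ} (hχ : IsCharacter E χ) {g : E} {a : ℤ} {b n : ℕ} (hn : n ≠ 0)
    (h : (a : ℂ) + n * χ g = b) : ∃ c : ℤ, χ g = c := by
  apply Characters.GaloisBasic.exists_int_of_isIntegral (Characters.GaloisBasic.isIntegral_apply hχ g)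
  have h0 : (n : ℂ) ≠ 0 := by exact_mod_cast hn
  refine ⟨(b - a) / n, ?_⟩
  push_cast
  rw [eq_div_iff h0]
  linear_combination h

/-- divisibility by the central character -/
theorem div_class {χ : E → ℂ} (hχ : IsIrrCharacter E χ) {g : E} {a : ℤ} (ha : χ g = a) {n : ℕ}
    (hn : (centralizer ({g} : Set E)).index = n) : (charDegree χ : ℤ) ∣ n * a := by
  have h1 := Cfsg.Agent.Blocks.CentralScalar.isIntegral_centralChar hχ g
  unfold centralChar at h1
  have hd := H669.Basic.charDegree_eq hχ
  have hp := H669.Basic.charDegree_pos hχ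
  have hp' : (charDegree χ : ℂ) ≠ 0 := by exact_mod_cast hp.ne'
  rw [hn, ha, hd] at h1
  obtain ⟨k, hk⟩ := Characters.GaloisBasic.exists_int_of_isIntegral h1 ⟨(n : ℚ) * a / charDegree χ, by push_cast; ring⟩
  refine ⟨k, ?_⟩
  rw [div_eq_iff hp'] at hk
  have h2 : (n : ℂ) * a = charDegree χ * k := by rw [hk]; ring
  exact_mod_cast h2

end

end Cfsg.Agent.H86.TI
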